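import Cfsg.Agent.Lib.FixedHalf.Criterion
import Cfsg.Agent.Lib.HallHigman.EndModule

/-!
# Reduction of the bound on fixed spaces to constituents

* `Kills ρ σ` : every linear relation between the `ρ g` holds between the `σ g`
* `bound_of_kills` : the bound for all irreducible representations killed by `ρ` gives it for `ρ`
* `finrank_fixSub_le_baseChange` : fixed spaces do not shrink under extension of scalars
-/

set_option autoImplicit false
set_option linter.style.haveILetI false
set_option linter.unusedSectionVars false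

open Module
open scoped TensorProduct

namespace Cfsg.Agent.FixedHalf

universe u v w

variable {K : Type u} [Field K] {G : Type w} [Group G] [Fintype G]
  {V : Type v} [AddCommGroup V] [Module K V] {W : Type v} [AddCommGroup W] [Module K W]

/-- Every linear relation of `ρ` holds for `σ`. -/
def Kills (ρ : G →* Module.End K V) (σ : G →* Module.End K W) : Prop :=
  ∀ f : G → K, ∑ g, f g • ρ g = 0 → ∑ g, f g • σ g = 0

variable {ρ : G →* Module.End K V} {σ : G →* Module.End K W}

theorem Kills.scalar (h : Kills ρ σ) {z : G} {c : K} (hz : ρ z = c • 1) : σ z = c • 1 := by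
  classical
  have h1 := h (fun g => (if g = z then 1 else 0) - if g = 1 then c else 0) (by
    simp [sub_smul, Finset.sum_sub_distrib, ite_smul, hz])
  simpa [sub_smul, Finset.sum_sub_distrib, ite_smul, sub_eq_zero] using h1

theorem Kills.sum_eq_zero (h : Kills ρ σ) {s : Finset G} (hs : ∑ g ∈ s, ρ g = 0) :
    ∑ g ∈ s, σ g = 0 := by
  classical
  have h1 := h (fun g => if g ∈ s then 1 else 0) (by
    simpa [ite_smul, Finset.sum_ite_mem] using hs)
  simpa [ite_smul, Finset.sum_ite_mem] using h1

/-- The representation on an invariant subspace. -/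
def subRep (σ : G →* Module.End K W) (U : Submodule K W) (hU : ∀ g, ∀ u ∈ U, σ g u ∈ U) :
    G →* Module.End K U where
  toFun g := (σ g).restrict (hU g)
  map_one' := LinearMap.ext fun u => Subtype.ext (by simp)
  map_mul' a b := LinearMap.ext fun u => Subtype.ext (by simp)

/-- The representation on the quotient by an invariant subspace. -/
def quotRep (σ : G →* Module.End K W) (U : Submodule K W) (hU : ∀ g, ∀ u ∈ U, σ g u ∈ U) :
    G →* Module.End K (W ⧸ U) where
  toFun g := U.mapQ U (σ g) (hU g)
  map_one' := Submodule.linearMap_qext _ (LinearMap.ext fun u => by simp)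
  map_mul' a b := Submodule.linearMap_qext _ (LinearMap.ext fun u => by simp)

theorem Kills.sub (h : Kills ρ σ) (U : Submodule K W) (hU : ∀ g, ∀ u ∈ U, σ g u ∈ U) :
    Kills ρ (subRep σ U hU) := fun f hf => LinearMap.ext fun u => Subtype.ext (by
  have h1 := LinearMap.congr_fun (h f hf) (u : W)
  simp only [LinearMap.sum_apply, LinearMap.smul_apply, LinearMap.zero_apply] at h1 ⊢
  rw [Submodule.coe_sum, Submodule.coe_zero]
  exact h1)

theorem Kills.quot (h : Kills ρ σ) (U : Submodule K W) (hU : ∀ g, ∀ u ∈ U, σ g u ∈ U) :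
    Kills ρ (quotRep σ U hU) := fun f hf => Submodule.linearMap_qext _ (LinearMap.ext fun u => by
  have h1 := congrArg U.mkQ (LinearMap.congr_fun (h f hf) u)
  simp only [LinearMap.sum_apply, LinearMap.smul_apply, LinearMap.zero_apply, map_sum, map_smul,
    map_zero] at h1
  simpa [quotRep] using h1)

theorem finrank_fixSub_le_add [FiniteDimensional K W] (x : G) (U : Submodule K W)
    (hU : ∀ g, ∀ u ∈ U, σ g u ∈ U) :
    finrank K ↥(fixSub (σ x)) ≤
      finrank K ↥(fixSub (subRep σ U hU x)) + finrank K ↥(fixSub (quotRep σ U hU x)) := by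
  let f : fixSub (σ x) →ₗ[K] W ⧸ U := U.mkQ.comp (fixSub (σ x)).subtype
  have h1 : finrank K ↥(LinearMap.range f) ≤ finrank K ↥(fixSub (quotRep σ U hU x)) := by
    refine Submodule.finrank_mono ?_
    rintro _ ⟨⟨v, hv⟩, rfl⟩
    rw [mem_fixSub]
    exact congrArg U.mkQ (mem_fixSub.mp hv)
  have h2 : finrank K ↥(LinearMap.ker f) ≤ finrank K ↥(fixSub (subRep σ U hU x)) := by
    have hker : ∀ v : LinearMap.ker f, ((v : fixSub (σ x)) : W) ∈ U := fun v =>
      (Submodule.Quotient.mk_eq_zero U).mp v.2
    refine LinearMap.finrank_le_finrank_of_injective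
      (f := LinearMap.codRestrict (fixSub (subRep σ U hU x))
        ((((fixSub (σ x)).subtype.comp (LinearMap.ker f).subtype)).codRestrict U hker) fun v => ?_) ?_
    · rw [mem_fixSub]
      exact Subtype.ext (mem_fixSub.mp (v : fixSub (σ x)).2)
    · intro a b hab
      exact Subtype.ext (Subtype.ext (congrArg (fun z => ((z : U) : W)) (Subtype.ext_iff.mp hab)))
  have h3 := LinearMap.finrank_range_add_finrank_ker f
  omega

/-- It is enough to bound the irreducible representations killed by `ρ`. -/
theorem bound_of_kills {V : Type v} [AddCommGroup V] [Module K V] [FiniteDimensional K V]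
    (ρ : G →* Module.End K V) (x : G)
    (hsimple : ∀ (W : Type v) [AddCommGroup W] [Module K W] [FiniteDimensional K W]
      (σ : G →* Module.End K W), Kills ρ σ → HallHigman.IsIrred σ ⊤ → 0 < finrank K W →
      2 * finrank K ↥(fixSub (σ x)) < finrank K W)
    (hpos : 0 < finrank K V) : 2 * finrank K ↥(fixSub (ρ x)) < finrank K V := by
  suffices h : ∀ n : ℕ, ∀ (W : Type v) [AddCommGroup W] [Module K W] [FiniteDimensional K W]
      (σ : G →* Module.End K W), Kills ρ σ → finrank K W = n → 0 < n →
      2 * finrank K ↥(fixSub (σ x)) < n from h _ V ρ (fun _ hf => hf) rfl hpos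
  intro n
  induction n using Nat.strong_induction_on with
  | _ n ih =>
  intro W _ _ _ σ hk hn hn0
  by_cases hirr : HallHigman.IsIrred σ ⊤
  · have := hsimple W σ hk hirr (hn ▸ hn0)
    omega
  simp only [HallHigman.IsIrred, not_forall, not_or] at hirr
  obtain ⟨U, hU, hU0, hU1⟩ := hirr
  have hU' : ∀ g, ∀ u ∈ U, σ g u ∈ U := fun g => hU g (Subgroup.mem_top g)
  have e := Submodule.finrank_quotient_add_finrank U
  have e1 : 0 < finrank K U := Nat.pos_of_ne_zero (mt Submodule.finrank_eq_zero.mp hU0)
  have e2 : finrank K U < n := hn ▸ Submodule.finrank_lt hU1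
  have a := ih _ e2 U (subRep σ U hU') (hk.sub U hU') rfl e1
  have b := ih _ (by omega) (W ⧸ U) (quotRep σ U hU') (hk.quot U hU') rfl (by omega)
  have c := finrank_fixSub_le_add x U hU' (σ := σ)
  omega

theorem finrank_fixSub_le_baseChange {k : Type*} [Field k] (K : Type*) [Field K] [Algebra k K]
    {V : Type*} [AddCommGroup V] [Module k V] [FiniteDimensional k V] (T : Module.End k V) :
    finrank k ↥(fixSub T) ≤ finrank K ↥(fixSub (LinearMap.baseChange K T)) := by
  rw [← finrank_baseChange (R := K)]
  let ι : K ⊗[k] fixSub T →ₗ[K] K ⊗[k] V := (fixSub T).subtype.baseChange K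
  have hι : Function.Injective ι :=
    Module.Flat.lTensor_preserves_injective_linearMap (fixSub T).subtype Subtype.val_injective
  refine LinearMap.finrank_le_finrank_of_injective
    (f := ι.codRestrict (fixSub (LinearMap.baseChange K T)) fun z => ?_)
    fun a b hab => hι (congrArg Subtype.val hab)
  rw [mem_fixSub]
  show (LinearMap.baseChange K T).comp ι z = ι z
  rw [← LinearMap.baseChange_comp,
    show T.comp (fixSub T).subtype = (fixSub T).subtype from LinearMap.ext fun v => mem_fixSub.mp v.2]

end Cfsg.Agent.FixedHalf
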