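import Cfsg.Agent.Lib.Quadratic.Stable
import Cfsg.Agent.Lib.PSL2.Soluble
import Cfsg.Agent.Lib.Cores.Basic

/-!
# Solvable groups in which every abelian normal subgroup is central

* commutator identities for central commutators
* `exists_minimal_noncentral` : a normal subgroup `N` minimal non-central
* `exists_moved` : `⁅x, n⁆ ∉ Z` for some `n ∈ N` if the conjugates of `x` generate
* `exists_symplectic` : for `q ≠ p` a subgroup of symplectic type moved fixed-point-freely by `x`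
* `exists_not_quadratic` : for `q = p` a chain `n, w, z`
-/

set_option autoImplicit false
set_option linter.style.haveILetI false
set_option linter.unusedSectionVars false

open scoped commutatorElement
open Cfsg

namespace Cfsg.Agent.FixedHalf

variable {G : Type*} [Group G]

local notation "Z" => Subgroup.center G

theorem commutator_eq_one_of_mem_center_left {z : G} (hz : z ∈ Z) (g : G) : ⁅z, g⁆ = 1 :=
  commutatorElement_eq_one_iff_commute.mpr ((Subgroup.mem_center_iff.mp hz g).symm)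

theorem commutator_mul_left {a b c : G} (h : ⁅b, c⁆ ∈ Z) : ⁅a * b, c⁆ = ⁅a, c⁆ * ⁅b, c⁆ := by
  have h1 := Subgroup.mem_center_iff.mp h
  calc ⁅a * b, c⁆ = a * ⁅b, c⁆ * a⁻¹ * ⁅a, c⁆ := by simp only [commutatorElement_def]; group
    _ = ⁅b, c⁆ * ⁅a, c⁆ := by rw [h1 a, mul_inv_cancel_right]
    _ = ⁅a, c⁆ * ⁅b, c⁆ := (h1 _).symm

theorem commutator_mul_right {a b c : G} (h : ⁅a, c⁆ ∈ Z) : ⁅a, b * c⁆ = ⁅a, b⁆ * ⁅a, c⁆ := by
  have h1 := Subgroup.mem_center_iff.mp h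
  calc ⁅a, b * c⁆ = ⁅a, b⁆ * (b * ⁅a, c⁆ * b⁻¹) := by simp only [commutatorElement_def]; group
    _ = ⁅a, b⁆ * ⁅a, c⁆ := by rw [h1 b, mul_inv_cancel_right]

theorem commutator_pow_left {a b : G} (h : ⁅a, b⁆ ∈ Z) (n : ℕ) : ⁅a ^ n, b⁆ = ⁅a, b⁆ ^ n := by
  induction n with
  | zero => simp
  | succ n ih => rw [pow_succ, commutator_mul_left h, ih, pow_succ]

/-- The image in `G / Z(G)`. -/
theorem mk_eq_one {g : G} : (QuotientGroup.mk g : G ⧸ Z) = 1 ↔ g ∈ Z := QuotientGroup.eq_one_iff g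

theorem mk_commute {a b : G} (h : ⁅a, b⁆ ∈ Z) :
    Commute (QuotientGroup.mk a : G ⧸ Z) (QuotientGroup.mk b) := by
  apply commutatorElement_eq_one_iff_commute.mp
  show QuotientGroup.mk' Z a * QuotientGroup.mk' Z b * (QuotientGroup.mk' Z a)⁻¹ *
    (QuotientGroup.mk' Z b)⁻¹ = 1
  rw [← map_inv, ← map_inv, ← map_mul, ← map_mul, ← map_mul]
  exact mk_eq_one.mpr h

variable [Finite G]

theorem exists_minimal_noncentral [Group.IsSolvable G] (hne : ¬ (⊤ : Subgroup G) ≤ Z) :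
    ∃ N : Subgroup G, N.Normal ∧ ¬ N ≤ Z ∧ (∀ M ≤ N, M.Normal → ¬ M ≤ Z → M = N) ∧
      (∀ a ∈ N, ∀ b ∈ N, ⁅a, b⁆ ∈ Z) ∧
      ∃ q : ℕ, q.Prime ∧ ∀ n ∈ N, n ^ q ∈ Z := by
  obtain ⟨N, ⟨hN, hNZ⟩, hmin⟩ := wellFounded_lt.has_min
    {N : Subgroup G | N.Normal ∧ ¬ N ≤ Z} ⟨⊤, inferInstance, hne⟩
  have hmin' : ∀ M ≤ N, M.Normal → ¬ M ≤ Z → M = N := fun M hle hM hMZ => by
    by_contra h
    exact hmin M ⟨hM, hMZ⟩ (lt_of_le_of_ne hle h)
  haveI := hN
  have hcomm : ∀ a ∈ N, ∀ b ∈ N, ⁅a, b⁆ ∈ Z := by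
    by_contra hcon
    push Not at hcon
    obtain ⟨a, ha, b, hb, hab⟩ := hcon
    have h1 : ⁅N, N⁆ = N := hmin' _ (Subgroup.commutator_le_left N N) inferInstance
      fun h => hab (h (Subgroup.commutator_mem_commutator ha hb))
    have h2 : ∀ k, N ≤ derivedSeries G k := by
      intro k
      induction k with
      | zero => exact le_top
      | succ k ih => rw [derivedSeries_succ, ← h1]; exact Subgroup.commutator_mono ih ih
    obtain ⟨k, hk⟩ := Group.IsSolvable.solvable (G := G)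
    exact hNZ ((h2 k).trans (hk.le.trans bot_le))
  refine ⟨N, hN, hNZ, hmin', hcomm, ?_⟩
  set Nb : Subgroup (G ⧸ Z) := N.map (QuotientGroup.mk' Z)
  have hNb : Nb ≠ ⊥ := fun h => hNZ fun n hn => mk_eq_one.mp
    ((Subgroup.eq_bot_iff_forall _).mp h _ ⟨n, hn, rfl⟩)
  obtain ⟨q, hq, hdvd⟩ := Nat.exists_prime_and_dvd (fun h => hNb (Subgroup.eq_bot_of_card_eq _ h))
  haveI := Fact.mk hq
  obtain ⟨⟨y, m, hm, rfl⟩, hy⟩ := exists_prime_orderOf_dvd_card' q hdvd
  rw [← Subgroup.orderOf_coe] at hy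
  change orderOf (QuotientGroup.mk' Z m) = q at hy
  let M : Subgroup G :=
    { carrier := {n | n ∈ N ∧ (QuotientGroup.mk n : G ⧸ Z) ^ q = 1}
      one_mem' := ⟨N.one_mem, by simp⟩
      mul_mem' := fun {a b} ha hb => ⟨N.mul_mem ha.1 hb.1, by
        rw [QuotientGroup.mk_mul, (mk_commute (hcomm a ha.1 b hb.1)).mul_pow, ha.2, hb.2, one_mul]⟩
      inv_mem' := fun {a} ha => ⟨N.inv_mem ha.1, by
        rw [QuotientGroup.mk_inv, inv_pow, ha.2, inv_one]⟩ }
  have hM : M.Normal := ⟨fun n hn g => ⟨hN.conj_mem n hn.1 g, by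
    rw [QuotientGroup.mk_mul, QuotientGroup.mk_mul, QuotientGroup.mk_inv, conj_pow, hn.2, mul_one,
      mul_inv_cancel]⟩⟩
  have hMN : M = N := by
    refine hmin' M (fun n hn => hn.1) hM fun h => ?_
    have h1 : m ∈ M := ⟨hm, by rw [← hy]; exact pow_orderOf_eq_one _⟩
    have h2 := mk_eq_one.mpr (h h1)
    rw [show (QuotientGroup.mk' Z) m = 1 from h2, orderOf_one] at hy
    exact hq.one_lt.ne hy
  refine ⟨q, hq, fun n hn => ?_⟩
  have h1 : n ∈ M := hMN ▸ hn
  exact mk_eq_one.mp h1.2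

variable {N : Subgroup G} [N.Normal] {x : G}

theorem exists_moved (hNZ : ¬ N ≤ Z) (hgen : Subgroup.normalClosure ({x} : Set G) = ⊤)
    (hab : ∀ A : Subgroup G, A.Normal → IsMulCommutative A → A ≤ Z) :
    ∃ n ∈ N, ⁅x, n⁆ ∉ Z := by
  by_contra hcon
  push Not at hcon
  let C : Subgroup G := (Subgroup.centralizer
    (N.map (QuotientGroup.mk' Z) : Set (G ⧸ Z))).comap (QuotientGroup.mk' Z)
  haveI : (N.map (QuotientGroup.mk' Z)).Normal :=
    Subgroup.Normal.map inferInstance _ (QuotientGroup.mk'_surjective _)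
  have hC : Subgroup.normalClosure ({x} : Set G) ≤ C := by
    refine Subgroup.normalClosure_le_normal ?_
    rintro _ rfl _ ⟨n, hn, rfl⟩
    exact (mk_commute (hcon n hn)).symm.eq
  rw [hgen] at hC
  obtain ⟨n, hn, hnZ⟩ := SetLike.not_le_iff_exists.mp hNZ
  let A : Subgroup G := (Subgroup.zpowers (QuotientGroup.mk' Z n)).comap (QuotientGroup.mk' Z)
  have hcent : ∀ g : G, Commute (QuotientGroup.mk' Z g) (QuotientGroup.mk' Z n) := fun g =>
    ((hC (Subgroup.mem_top g)) _ ⟨n, hn, rfl⟩).symm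
  have hA : A.Normal := ⟨fun a ha g => by
    obtain ⟨i, hi⟩ := ha
    refine ⟨i, ?_⟩
    have hi' : (QuotientGroup.mk' Z n) ^ i = QuotientGroup.mk' Z a := hi
    show (QuotientGroup.mk' Z n) ^ i = QuotientGroup.mk' Z (g * a * g⁻¹)
    rw [map_mul, map_mul, map_inv, ← hi', ((hcent g).zpow_right i).eq, mul_inv_cancel_right]⟩
  have hdec : ∀ a ∈ A, ∃ i : ℤ, ∃ z ∈ Z, a = n ^ i * z := fun a ha => by
    obtain ⟨i, hi⟩ := ha
    refine ⟨i, (n ^ i)⁻¹ * a, mk_eq_one.mp ?_, by group⟩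
    show QuotientGroup.mk' Z ((n ^ i)⁻¹ * a) = 1
    rw [map_mul, map_inv, map_zpow, show (QuotientGroup.mk' Z n) ^ i = QuotientGroup.mk' Z a from hi,
      inv_mul_cancel]
  refine hnZ (hab A hA ⟨⟨?_⟩⟩ ⟨1, by simp⟩)
  rintro ⟨a, ha⟩ ⟨b, hb⟩
  obtain ⟨i, z, hz, rfl⟩ := hdec a ha
  obtain ⟨j, w, hw, rfl⟩ := hdec b hb
  apply Subtype.ext
  show n ^ i * z * (n ^ j * w) = n ^ j * w * (n ^ i * z)
  have hz' : ∀ g, Commute z g := fun g => (Subgroup.mem_center_iff.mp hz g).symm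
  have hw' : ∀ g, Commute g w := fun g => Subgroup.mem_center_iff.mp hw g
  exact (((Commute.zpow_zpow_self n i j).mul_right (hw' _)).mul_left
    ((hz' (n ^ j)).mul_right (hz' w))).eq

omit [Finite G] in
/-- The norm of `n` under `x`. -/
def normMap (x : G) : ℕ → G → G
  | 0, _ => 1
  | m + 1, n => normMap x m n * (x ^ m * n * (x ^ m)⁻¹)

theorem normMap_mem (x : G) (m : ℕ) {n : G} (hn : n ∈ N) : normMap x m n ∈ N := by
  induction m with
  | zero => exact N.one_mem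
  | succ m ih => exact N.mul_mem ih (Subgroup.Normal.conj_mem inferInstance n hn _)

theorem normMap_conj (x : G) (m : ℕ) (n : G) :
    x * normMap x m n * x⁻¹ = normMap x m (x * n * x⁻¹) := by
  induction m with
  | zero => simp [normMap]
  | succ m ih =>
    simp only [normMap]
    calc x * (normMap x m n * (x ^ m * n * (x ^ m)⁻¹)) * x⁻¹
        = (x * normMap x m n * x⁻¹) * ((x * x ^ m) * n * (x * x ^ m)⁻¹) := by group
      _ = _ := by rw [ih, ← pow_succ', pow_succ]; group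

theorem mk_normMap_mul (hcomm : ∀ a ∈ N, ∀ b ∈ N, ⁅a, b⁆ ∈ Z) (x : G) (m : ℕ) {a b : G} (ha : a ∈ N) (hb : b ∈ N) :
    (QuotientGroup.mk (normMap x m (a * b)) : G ⧸ Z) =
      QuotientGroup.mk (normMap x m a) * QuotientGroup.mk (normMap x m b) := by
  induction m with
  | zero => simp [normMap]
  | succ m ih =>
    have hN' : ∀ n ∈ N, x ^ m * n * (x ^ m)⁻¹ ∈ N := fun n hn =>
      Subgroup.Normal.conj_mem inferInstance n hn _
    have hc := mk_commute (hcomm _ (normMap_mem (N := N) x m hb) _ (hN' a ha))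
    simp only [normMap]
    rw [show x ^ m * (a * b) * (x ^ m)⁻¹ = (x ^ m * a * (x ^ m)⁻¹) * (x ^ m * b * (x ^ m)⁻¹) by group,
      QuotientGroup.mk_mul Z (normMap x m (a * b)), ih,
      QuotientGroup.mk_mul Z (x ^ m * a * (x ^ m)⁻¹) (x ^ m * b * (x ^ m)⁻¹),
      QuotientGroup.mk_mul Z (normMap x m a), QuotientGroup.mk_mul Z (normMap x m b)]
    exact hc.mul_mul_mul_comm _ _

theorem mk_normMap_shift (x : G) (m : ℕ) (n : G) :
    (QuotientGroup.mk n : G ⧸ Z) * QuotientGroup.mk (normMap x m (x * n * x⁻¹)) =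
      QuotientGroup.mk (normMap x (m + 1) n) := by
  induction m with
  | zero => simp [normMap]
  | succ m ih =>
    rw [show normMap x (m + 1) (x * n * x⁻¹) =
      normMap x m (x * n * x⁻¹) * (x ^ m * (x * n * x⁻¹) * (x ^ m)⁻¹) from rfl,
      show normMap x (m + 1 + 1) n =
        normMap x (m + 1) n * (x ^ (m + 1) * n * (x ^ (m + 1))⁻¹) from rfl,
      QuotientGroup.mk_mul, ← mul_assoc, ih, ← QuotientGroup.mk_mul]
    congr 2
    rw [pow_succ]; group

omit [N.Normal] in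
theorem mk_normMap_fixed (x : G) (m : ℕ) {n : G} (h : ⁅x, n⁆ ∈ Z) :
    (QuotientGroup.mk (normMap x m n) : G ⧸ Z) = (QuotientGroup.mk n) ^ m := by
  induction m with
  | zero => simp [normMap]
  | succ m ih =>
    rw [normMap, QuotientGroup.mk_mul, ih, pow_succ]
    congr 1
    simp only [QuotientGroup.mk_mul, QuotientGroup.mk_inv, QuotientGroup.mk_pow]
    rw [((mk_commute h).pow_left m).eq, mul_inv_cancel_right]

/-- The symplectic subgroup for `q ≠ p`. -/
theorem exists_symplectic (hcomm : ∀ a ∈ N, ∀ b ∈ N, ⁅a, b⁆ ∈ Z)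
    (hgen : Subgroup.normalClosure ({x} : Set G) = ⊤) (hNZ : ¬ N ≤ Z)
    (hab : ∀ A : Subgroup G, A.Normal → IsMulCommutative A → A ≤ Z)
    {p q : ℕ} (hp : p.Prime) (hq : q.Prime) (hpq : q ≠ p) (hx : x ^ p = 1)
    (hqZ : ∀ n ∈ N, n ^ q ∈ Z) :
    ∃ R : Subgroup G, x ∈ Subgroup.normalizer (R : Set G) ∧ (∀ a ∈ R, ∀ b ∈ R, ⁅a, b⁆ ∈ Z) ∧
      (∀ r ∈ R, (∀ s ∈ R, ⁅r, s⁆ = 1) → r ∈ Z) ∧ (∀ r ∈ R, ⁅x, r⁆ ∈ Z → r ∈ Z) ∧
      ∃ a ∈ R, ∃ b ∈ R, ⁅a, b⁆ ≠ 1 := by
  obtain ⟨n₀, hn₀, hn₀'⟩ := exists_moved hNZ hgen hab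
  have hxN : ∀ n ∈ N, x * n * x⁻¹ ∈ N := fun n hn => Subgroup.Normal.conj_mem inferInstance n hn x
  let R : Subgroup G :=
    { carrier := {n | n ∈ N ∧ (QuotientGroup.mk (normMap x p n) : G ⧸ Z) = 1}
      one_mem' := ⟨N.one_mem, by
        rw [mk_normMap_fixed (x := x) p (by rw [commutatorElement_one_right]; exact Subgroup.one_mem Z),
          QuotientGroup.mk_one, one_pow]⟩
      mul_mem' := fun {a b} ha hb => ⟨N.mul_mem ha.1 hb.1, by
        rw [mk_normMap_mul hcomm x p ha.1 hb.1, ha.2, hb.2, one_mul]⟩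
      inv_mem' := fun {a} ha => ⟨N.inv_mem ha.1, by
        have h := mk_normMap_mul hcomm x p (N.inv_mem ha.1) ha.1
        rw [inv_mul_cancel, ha.2, mul_one] at h
        rw [← h, mk_normMap_fixed (x := x) p
          (by rw [commutatorElement_one_right]; exact Subgroup.one_mem Z),
          QuotientGroup.mk_one, one_pow]⟩ }
  have hfpf : ∀ r ∈ R, ⁅x, r⁆ ∈ Z → r ∈ Z := by
    intro r hr h
    have h1 : (QuotientGroup.mk r : G ⧸ Z) ^ p = 1 := (mk_normMap_fixed x p h).symm.trans hr.2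
    have h2 : (QuotientGroup.mk r : G ⧸ Z) ^ q = 1 := mk_eq_one.mpr (hqZ r hr.1)
    refine mk_eq_one.mp ?_
    simpa [(Nat.coprime_primes hp hq).mpr hpq.symm] using (pow_gcd_eq_one (m := p) (n := q)).mpr ⟨h1, h2⟩
  -- fixed elements commute with `R`
  have hCR : ∀ c ∈ N, ⁅x, c⁆ ∈ Z → ∀ r ∈ R, ⁅c, r⁆ = 1 := by
    intro c hc hxc r hr
    have hstep : ∀ s ∈ N, ⁅c, x * s * x⁻¹⁆ = ⁅c, s⁆ := fun s hs => by
      have h1 := Subgroup.mem_center_iff.mp (hcomm c hc s hs) x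
      have h2 : ⁅x * c * x⁻¹, x * s * x⁻¹⁆ = ⁅c, x * s * x⁻¹⁆ := by
        rw [show x * c * x⁻¹ = ⁅x, c⁆ * c by simp [commutatorElement_def],
          commutator_mul_left (hcomm c hc _ (hxN s hs)), commutator_eq_one_of_mem_center_left hxc, one_mul]
      rw [← h2, show ⁅x * c * x⁻¹, x * s * x⁻¹⁆ = x * ⁅c, s⁆ * x⁻¹ by
        simp only [commutatorElement_def]; group, h1, mul_inv_cancel_right]
    have hpowx : ∀ m : ℕ, ∀ s ∈ N, ⁅c, x ^ m * s * (x ^ m)⁻¹⁆ = ⁅c, s⁆ := by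
      intro m
      induction m with
      | zero => intro s _; simp
      | succ m ih =>
        intro s hs
        rw [show x ^ (m + 1) * s * (x ^ (m + 1))⁻¹ = x * (x ^ m * s * (x ^ m)⁻¹) * x⁻¹ by
          rw [pow_succ']; group,
          hstep _ (Subgroup.Normal.conj_mem inferInstance s hs _), ih s hs]
    have hnorm : ∀ m : ℕ, ⁅c, normMap x m r⁆ = ⁅c, r⁆ ^ m := by
      intro m
      induction m with
      | zero => simp [normMap]
      | succ m ih =>
        rw [normMap, commutator_mul_right (hcomm c hc _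
          (Subgroup.Normal.conj_mem inferInstance r hr.1 _)), ih, hpowx m r hr.1, pow_succ]
    have h1 : ⁅c, r⁆ ^ p = 1 := by
      rw [← hnorm p, ← commutatorElement_inv, commutator_eq_one_of_mem_center_left (mk_eq_one.mp hr.2),
        inv_one]
    have h2 : ⁅c, r⁆ ^ q = 1 := by
      rw [← commutator_pow_left (hcomm c hc r hr.1), commutator_eq_one_of_mem_center_left (hqZ c hc)]
    simpa [(Nat.coprime_primes hp hq).mpr hpq.symm] using (pow_gcd_eq_one (m := p) (n := q)).mpr ⟨h1, h2⟩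
  -- `N = R C`
  have hdec : ∀ n ∈ N, ∃ c ∈ N, ⁅x, c⁆ ∈ Z ∧ n * c⁻¹ ∈ R := by
    intro n hn
    haveI := Fact.mk hq
    set a := ((p : ZMod q)⁻¹).val
    set ν := normMap x p n
    have hν : ν ∈ N := normMap_mem x p hn
    have hνx : (QuotientGroup.mk (x * ν * x⁻¹) : G ⧸ Z) = QuotientGroup.mk ν := by
      have h := mk_normMap_shift x p n
      have hsucc : (QuotientGroup.mk (normMap x (p + 1) n) : G ⧸ Z) =
          QuotientGroup.mk ν * QuotientGroup.mk n := by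
        rw [normMap, QuotientGroup.mk_mul, hx]; simp [ν]
      rw [← normMap_conj, hsucc, (mk_commute (hcomm ν hν n hn)).eq] at h
      exact mul_left_cancel h
    have hxν : Commute (QuotientGroup.mk x : G ⧸ Z) (QuotientGroup.mk ν) := by
      simpa [mul_inv_eq_iff_eq_mul, Commute, SemiconjBy] using hνx
    have hca : ⁅x, ν ^ a⁆ ∈ Z := by
      refine mk_eq_one.mp ?_
      show QuotientGroup.mk' Z ⁅x, ν ^ a⁆ = 1
      rw [map_commutatorElement, map_pow]
      exact commutatorElement_eq_one_iff_commute.mpr (hxν.pow_right a)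
    have hca' : ν ^ a ∈ N := N.pow_mem hν a
    refine ⟨ν ^ a, hca', hca, N.mul_mem hn (N.inv_mem hca'), ?_⟩
    have hinv : ⁅x, (ν ^ a)⁻¹⁆ ∈ Z := by
      refine mk_eq_one.mp ?_
      show QuotientGroup.mk' Z ⁅x, (ν ^ a)⁻¹⁆ = 1
      rw [map_commutatorElement, map_inv, map_pow]
      exact commutatorElement_eq_one_iff_commute.mpr (hxν.pow_right a).inv_right
    rw [mk_normMap_mul hcomm x p hn (N.inv_mem hca'), mk_normMap_fixed x p hinv, QuotientGroup.mk_inv,
      QuotientGroup.mk_pow, inv_pow, ← pow_mul,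
      pow_eq_pow_mod _ (show (QuotientGroup.mk ν : G ⧸ Z) ^ q = 1 from mk_eq_one.mpr (hqZ ν hν)),
      show a * p % q = 1 from ?_, pow_one, mul_inv_cancel]
    have hp0 : (p : ZMod q) ≠ 0 := fun h =>
      hpq ((Nat.prime_dvd_prime_iff_eq hq hp).mp ((ZMod.natCast_eq_zero_iff _ _).mp h))
    haveI : Fact (1 < q) := ⟨hq.one_lt⟩
    rw [← ZMod.val_natCast, Nat.cast_mul, ZMod.natCast_zmod_val, inv_mul_cancel₀ hp0, ZMod.val_one]
  have hRN : ∀ r ∈ R, r ∈ N := fun r hr => hr.1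
  have hcentN : ∀ r ∈ R, (∀ s ∈ R, ⁅r, s⁆ = 1) → r ∈ Z := by
    intro r hr hrs
    haveI : (N ⊓ Subgroup.centralizer (N : Set G)).Normal := inferInstance
    refine hab (N ⊓ Subgroup.centralizer (N : Set G)) inferInstance
      ⟨⟨fun a b => Subtype.ext (b.2.2 a a.2.1)⟩⟩ ⟨hr.1, ?_⟩
    intro n hn
    obtain ⟨c, hc, hxc, hcR⟩ := hdec n hn
    have h1 : Commute r (n * c⁻¹) := commutatorElement_eq_one_iff_commute.mp (hrs _ hcR)
    have h2 : Commute r c := (commutatorElement_eq_one_iff_commute.mp (hCR c hc hxc r hr)).symm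
    have h3 := h1.mul_right h2
    rw [inv_mul_cancel_right] at h3
    exact h3.symm
  refine ⟨R, Subgroup.mem_normalizer_fintype fun r hr => ⟨hxN r hr.1, ?_⟩, ?_, hcentN, hfpf, ?_⟩
  · rw [← normMap_conj, QuotientGroup.mk_mul, QuotientGroup.mk_mul, hr.2]
    simp
  · exact fun a ha b hb => hcomm a ha.1 b hb.1
  by_contra hcon
  push Not at hcon
  obtain ⟨c, hc, hxc, hcR⟩ := hdec n₀ hn₀
  have hr : n₀ * c⁻¹ ∈ Z := hcentN _ hcR fun s hs => hcon _ hcR s hs
  refine hn₀' (mk_eq_one.mp ?_)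
  show QuotientGroup.mk' Z ⁅x, n₀⁆ = 1
  have e : QuotientGroup.mk' Z n₀ = QuotientGroup.mk' Z c := by
    rw [← mul_one (QuotientGroup.mk' Z c), ← inv_mul_cancel_right n₀ c, map_mul,
      show QuotientGroup.mk' Z (n₀ * c⁻¹) = 1 from mk_eq_one.mpr hr, one_mul, mul_one]
  rw [map_commutatorElement, e, ← map_commutatorElement]
  exact mk_eq_one.mpr hxc

/-- For `q = p` the action is not quadratic. -/
theorem exists_not_quadratic [Group.IsSolvable G]
    (hgen : Subgroup.normalClosure ({x} : Set G) = ⊤)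
    (hNZ : ¬ N ≤ Z) (hmin : ∀ M ≤ N, M.Normal → ¬ M ≤ Z → M = N)
    (hab : ∀ A : Subgroup G, A.Normal → IsMulCommutative A → A ≤ Z)
    {p : ℕ} (hp : p.Prime) (h5 : 5 ≤ p) (hqZ : ∀ n ∈ N, n ^ p ∈ Z) :
    ∃ n ∈ N, ⁅x, ⁅x, n⁆⁆ ∉ Z := by
  haveI := Fact.mk hp
  by_contra hcon
  push Not at hcon
  obtain ⟨n₀, hn₀, hn₀'⟩ := exists_moved hNZ hgen hab
  set π := QuotientGroup.mk' Z
  set P := N.map π
  haveI hP : P.Normal := Subgroup.Normal.map inferInstance _ (QuotientGroup.mk'_surjective _)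
  have hPp : IsPGroup p P := by
    rintro ⟨_, n, hn, rfl⟩
    exact ⟨1, Subtype.ext (by
      rw [pow_one, SubgroupClass.coe_pow, OneMemClass.coe_one, ← map_pow]
      exact mk_eq_one.mpr (hqZ n hn))⟩
  have hquad : ∀ v ∈ P, Commute (π x) (π x * v * (π x)⁻¹ * v⁻¹) := by
    rintro _ ⟨n, hn, rfl⟩
    rw [← map_inv, ← map_inv, ← map_mul, ← map_mul, ← map_mul]
    exact mk_commute (hcon n hn)
  set C := Subgroup.centralizer (P : Set (G ⧸ Z))
  have hxC : π x ∉ C := fun h => hn₀' (mk_eq_one.mp (by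
    show π ⁅x, n₀⁆ = 1
    rw [map_commutatorElement]
    exact commutatorElement_eq_one_iff_commute.mpr (h _ ⟨n₀, hn₀, rfl⟩).symm))
  have hna : (QuotientGroup.mk (π x) : (G ⧸ Z) ⧸ C) ∉ pCore p ((G ⧸ Z) ⧸ C) := by
    intro hmem
    set X := (G ⧸ Z) ⧸ C
    let φ : X →* MulAut P := QuotientGroup.lift C MulAut.conjNormal (fun g hg => by
      rw [MonoidHom.mem_ker]
      ext v
      rw [MulAut.conjNormal_apply, ← hg v v.2, mul_inv_cancel_right]
      rfl)
    letI : MulAction ↥(pCore p X) P := MulAction.compHom P (φ.comp (pCore p X).subtype)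
    haveI : Nontrivial P := (Subgroup.nontrivial_iff_ne_bot _).mpr fun h =>
      hNZ fun n hn => mk_eq_one.mp ((Subgroup.eq_bot_iff_forall _).mp h _ ⟨n, hn, rfl⟩)
    have hdvd : p ∣ Nat.card P := by
      obtain ⟨k, hk0, hk⟩ := hPp.nontrivial_iff_card.mp inferInstance
      exact hk ▸ dvd_pow_self _ hk0.ne'
    obtain ⟨b, hb, hb1⟩ := (Cores.isPGroup_pCore p X).exists_fixed_point_of_prime_dvd_card_of_fixed_point
      P hdvd (a := (1 : P)) (fun g => map_one (φ (g : X)))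
    set D := (pCore p X).comap (QuotientGroup.mk' C)
    have hbD : (b : G ⧸ Z) ∈ P ⊓ Subgroup.centralizer (D : Set (G ⧸ Z)) := by
      refine ⟨b.2, fun g hg => ?_⟩
      have h1 : φ (QuotientGroup.mk g) b = b := hb (⟨QuotientGroup.mk g, hg⟩ : pCore p X)
      have h2 := congrArg Subtype.val h1
      rw [show φ (QuotientGroup.mk g) = MulAut.conjNormal g from rfl, MulAut.conjNormal_apply,
        mul_inv_eq_iff_eq_mul] at h2
      exact h2
    set M := (P ⊓ Subgroup.centralizer (D : Set (G ⧸ Z))).comap π ⊓ N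
    have hM : M = N := by
      refine hmin M inf_le_right inferInstance fun h => ?_
      obtain ⟨n, hn, hnb⟩ : (b : G ⧸ Z) ∈ N.map π := b.2
      have hnM : n ∈ M := ⟨show π n ∈ _ by rw [hnb]; exact hbD, hn⟩
      have h3 : π n = 1 := mk_eq_one.mpr (h hnM)
      rw [hnb] at h3
      exact hb1 (Subtype.ext h3.symm)
    refine hxC fun v hv => ?_
    obtain ⟨n, hn, rfl⟩ := hv
    have hnM : n ∈ M := hM.symm ▸ hn
    exact (hnM.1.2 (π x) hmem).symm
  obtain ⟨H, L, hL, -, ⟨e⟩⟩ := Quadratic.section_sl2_of_not_stable (by omega) hPp hquad hna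
  haveI : Group.IsSolvable (H ⧸ L.subgroupOf H) := inferInstance
  haveI : Group.IsSolvable (PSL2.SL2 (ZMod p)) :=
    Group.isSolvable_of_surjective (f := e.toMonoidHom) e.surjective
  refine PSL2.not_isSolvable_psl (L := ZMod p) (by rw [Nat.card_zmod]; omega) ?_
  exact Group.isSolvable_of_surjective (QuotientGroup.mk'_surjective _)

end Cfsg.Agent.FixedHalf
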