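import Cfsg.Agent.EqLemmas

/-!
# A bound for fixed spaces from an invariant decomposition

* `fixSub T` : `ker (T - 1)`
* `finrank_finsetSup` : the dimension of a finite independent sum
* `two_mul_finrank_fixSub_lt` : `T` of prime order `p ≥ 5` permutes the summands of a decomposition and
  the fixed summands carry at most a third of the space: `2 dim C_V(T) < dim V`.
-/

set_option autoImplicit false
set_option linter.style.haveILetI false

open Module

namespace Cfsg.Agent.FixedHalf

variable {K : Type*} [Field K] {V : Type*} [AddCommGroup V] [Module K V]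

/-- The fixed space. -/
def fixSub (T : Module.End K V) : Submodule K V := LinearMap.ker (T - 1)

theorem mem_fixSub {T : Module.End K V} {v : V} : v ∈ fixSub T ↔ T v = v := by
  rw [fixSub, LinearMap.mem_ker, LinearMap.sub_apply, Module.End.one_apply, sub_eq_zero]

variable [FiniteDimensional K V] {ι : Type*}

theorem finrank_finsetSup [DecidableEq ι] {W : ι → Submodule K V} (hind : iSupIndep W)
    (s : Finset ι) : finrank K ↥(s.sup W) = ∑ i ∈ s, finrank K ↥(W i) := by
  induction s using Finset.induction_on with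
  | empty => simp
  | insert i s his ih =>
    rw [Finset.sup_insert, Finset.sum_insert his, ← ih]
    have hd : W i ⊓ s.sup W = ⊥ := by
      refine le_bot_iff.mp (le_trans (inf_le_inf_left _ ?_) (hind i).le_bot)
      exact Finset.sup_le fun j hj => le_iSup₂_of_le j (fun e => his (e ▸ hj)) le_rfl
    have h := Submodule.finrank_sup_add_finrank_inf_eq (W i) (s.sup W)
    rw [hd, finrank_bot, add_zero] at h
    exact h

/-- Components in an independent family are unique. -/
theorem eq_zero_of_sum_eq_zero [Fintype ι] {W : ι → Submodule K V} (hind : iSupIndep W) {w : ι → V}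
    (hw : ∀ i, w i ∈ W i) (h : ∑ i, w i = 0) (i : ι) : w i = 0 := by
  classical
  have h1 : w i ∈ W i ⊓ ⨆ (j : ι) (_ : j ≠ i), W j := by
    refine ⟨hw i, ?_⟩
    rw [← Finset.add_sum_erase _ _ (Finset.mem_univ i)] at h
    rw [eq_neg_of_add_eq_zero_left h]
    exact Submodule.neg_mem _ (Submodule.sum_mem _ fun j hj =>
      Submodule.mem_iSup_of_mem j (Submodule.mem_iSup_of_mem (Finset.ne_of_mem_erase hj) (hw j)))
  rwa [(hind i).eq_bot, Submodule.mem_bot] at h1

theorem two_mul_finrank_fixSub_lt [Fintype ι] [DecidableEq ι] {W : ι → Submodule K V} (hind : iSupIndep W)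
    (htop : iSup W = ⊤) {p : ℕ} (hp : p.Prime) (h5 : 5 ≤ p) (T : Module.End K V) (hT : T ^ p = 1)
    (σ : Equiv.Perm ι) (hσp : σ ^ p = 1) (hσ : ∀ i, ∀ w ∈ W i, T w ∈ W (σ i))
    (hF : 3 * ∑ i ∈ Finset.univ.filter (fun i => σ i = i), finrank K ↥(W i) ≤ finrank K V)
    (hpos : 0 < finrank K V) :
    2 * finrank K ↥(fixSub T) < finrank K V := by
  classical
  set m : ι → ℕ := fun i => finrank K ↥(W i)
  have hTinj : Function.Injective T := by
    refine Function.LeftInverse.injective (g := ⇑(T ^ (p - 1))) fun v => ?_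
    rw [← Module.End.mul_apply, ← pow_succ, Nat.sub_add_cancel hp.one_le, hT, Module.End.one_apply]
  have hstep : ∀ i, m i ≤ m (σ i) := fun i =>
    LinearMap.finrank_le_finrank_of_injective (f := T.restrict (hσ i))
      fun a b hab => Subtype.ext (hTinj (congrArg Subtype.val hab))
  have hmj : ∀ (j : ℕ) (i : ι), m i ≤ m ((σ ^ j) i) := by
    intro j
    induction j with
    | zero => intro i; simp
    | succ j ih => intro i; rw [pow_succ', Equiv.Perm.mul_apply]; exact (ih i).trans (hstep _)
  have hm : ∀ i, m (σ i) = m i := fun i => by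
    refine le_antisymm ?_ (hstep i)
    have h := hmj (p - 1) (σ i)
    rwa [← Equiv.Perm.mul_apply, ← pow_succ, Nat.sub_add_cancel hp.one_le, hσp, Equiv.Perm.one_apply] at h
  have hmpow : ∀ (j : ℕ) (i : ι), m ((σ ^ j) i) = m i := by
    intro j
    induction j with
    | zero => intro i; simp
    | succ j ih => intro i; rw [pow_succ', Equiv.Perm.mul_apply, hm, ih]
  set F := Finset.univ.filter (fun i => σ i = i) with hFdef
  let r : ι → ι := fun i => (Quotient.mk (Equiv.Perm.SameCycle.setoid σ) i).out
  have hr : ∀ i, σ.SameCycle (r i) i := fun i =>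
    Quotient.mk_out (s := Equiv.Perm.SameCycle.setoid σ) i
  have hreach : ∀ i j, σ.SameCycle i j → ∃ k < p, (σ ^ k) i = j := by
    intro i j h
    obtain ⟨k, hk⟩ := h.exists_nat_pow_eq
    refine ⟨k % p, Nat.mod_lt _ hp.pos, ?_⟩
    conv_rhs => rw [← hk, ← Nat.div_add_mod k p, pow_add, pow_mul, hσp, one_pow, one_mul]
  have hfixed : ∀ i k, 0 < k → k < p → (σ ^ k) i = i → σ i = i := by
    intro i k hk hkp h
    have hco : Nat.Coprime k p :=
      (hp.coprime_iff_not_dvd.mpr (Nat.not_dvd_of_pos_of_lt hk hkp)).symm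
    obtain ⟨u, hu⟩ := exists_pow_eq_self_of_coprime
      (hco.coprime_dvd_right (orderOf_dvd_of_pow_eq_one hσp))
    conv_lhs => rw [← hu]
    clear hu
    induction u with
    | zero => simp
    | succ u ih => rw [pow_succ', Equiv.Perm.mul_apply, ih, h]
  set Tset := Finset.univ.filter (fun i => σ i ≠ i ∧ r i = i) with hTset
  set moved := Finset.univ.filter (fun i => σ i ≠ i) with hmoved
  have hcomm : ∀ (k : ℕ) (i : ι), σ ((σ ^ k) i) = (σ ^ k) (σ i) := fun k i => by
    rw [← Equiv.Perm.mul_apply, ← Equiv.Perm.mul_apply, ← pow_succ', ← pow_succ]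
  have hmovedpow : ∀ (k : ℕ) (i : ι), σ i ≠ i → σ ((σ ^ k) i) ≠ (σ ^ k) i := fun k i hi h => by
    rw [hcomm] at h; exact hi ((σ ^ k).injective h)
  have hrmem : ∀ i, σ i ≠ i → r i ∈ Tset := by
    intro i hi
    obtain ⟨k, -, hk⟩ := hreach i (r i) (hr i).symm
    refine Finset.mem_filter.mpr ⟨Finset.mem_univ _, ?_, ?_⟩
    · rw [← hk]; exact hmovedpow k i hi
    · exact congrArg Quotient.out (Quotient.sound (hr i))
  have hsum : ∑ i ∈ moved, m i = p * ∑ i ∈ Tset, m i := by
    rw [Finset.mul_sum]
    have : ∀ t ∈ Tset, p * m t = ∑ k ∈ Finset.range p, m ((σ ^ k) t) := fun t _ => by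
      rw [Finset.sum_congr rfl fun k _ => hmpow k t, Finset.sum_const, Finset.card_range, smul_eq_mul]
    rw [Finset.sum_congr rfl this, ← Finset.sum_product' Tset (Finset.range p) fun t k => m ((σ ^ k) t)]
    refine (Finset.sum_bij (fun (z : ι × ℕ) _ => (σ ^ z.2) z.1) ?_ ?_ ?_ fun z _ => rfl).symm
    · rintro ⟨t, k⟩ hz
      rw [Finset.mem_product, hTset, Finset.mem_filter] at hz
      exact Finset.mem_filter.mpr ⟨Finset.mem_univ _, hmovedpow k t hz.1.2.1⟩
    · rintro ⟨t, k⟩ hz ⟨t', k'⟩ hz' heq
      rw [Finset.mem_product, hTset, Finset.mem_filter, Finset.mem_range] at hz hz'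
      change (σ ^ k) t = (σ ^ k') t' at heq
      have hsame : σ.SameCycle t t' := by
        have h1 : σ.SameCycle t ((σ ^ k) t) := ⟨k, by rw [zpow_natCast]⟩
        have h2 : σ.SameCycle t' ((σ ^ k') t') := ⟨k', by rw [zpow_natCast]⟩
        exact h1.trans (heq ▸ h2.symm)
      have htt : t = t' := by
        rw [show t = r t from hz.1.2.2.symm, show t' = r t' from hz'.1.2.2.symm]
        exact congrArg Quotient.out (Quotient.sound hsame)
      subst htt
      rcases lt_trichotomy k k' with h | h | h
      · refine absurd (hfixed t (k' - k) (by omega) (by omega) ((σ ^ k).injective ?_)) hz.1.2.1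
        rw [← Equiv.Perm.mul_apply, ← pow_add, Nat.add_sub_cancel' h.le, heq]
      · rw [h]
      · refine absurd (hfixed t (k - k') (by omega) (by omega) ((σ ^ k').injective ?_)) hz.1.2.1
        rw [← Equiv.Perm.mul_apply, ← pow_add, Nat.add_sub_cancel' h.le, heq]
    · intro i hi
      have hi' := (Finset.mem_filter.mp hi).2
      obtain ⟨k, hk, hki⟩ := hreach _ _ (hr i)
      exact ⟨(r i, k), Finset.mem_product.mpr ⟨hrmem i hi', Finset.mem_range.mpr hk⟩, hki⟩
  -- a fixed vector vanishes if its components on `F ∪ Tset` do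
  set R := Finset.univ.filter (fun i => ¬ (σ i = i ∨ r i = i)) with hR
  have hmeet : fixSub T ⊓ R.sup W = ⊥ := by
    rw [eq_bot_iff]
    rintro v ⟨hv, hvR⟩
    have hsup : R.sup W = ⨆ i ∈ R, W i := Finset.sup_eq_iSup R W
    rw [SetLike.mem_coe, hsup, Submodule.mem_iSup_finset_iff_exists_sum] at hvR
    obtain ⟨μ, hμ⟩ := hvR
    let w : ι → V := fun i => if i ∈ R then (μ i : V) else 0
    have hw : ∀ i, w i ∈ W i := fun i => by
      show (if i ∈ R then (μ i : V) else 0) ∈ W i
      split_ifs
      · exact (μ i).2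
      · exact Submodule.zero_mem _
    have hwv : ∑ i, w i = v := by
      rw [← hμ, Finset.sum_ite_mem, Finset.univ_inter]
    have hTw : ∀ i, T (w i) = w (σ i) := by
      intro i
      let u : ι → V := fun j => T (w (σ.symm j)) - w j
      have hu : ∀ j, u j ∈ W j := fun j => by
        refine Submodule.sub_mem _ ?_ (hw j)
        have := hσ (σ.symm j) _ (hw (σ.symm j))
        rwa [Equiv.apply_symm_apply] at this
      have hu0 : ∑ j, u j = 0 := by
        show ∑ j, (T (w (σ.symm j)) - w j) = 0
        rw [Finset.sum_sub_distrib, Equiv.sum_comp σ.symm fun j => T (w j), ← map_sum, hwv,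
          mem_fixSub.mp hv, sub_self]
      have h1 := eq_zero_of_sum_eq_zero hind hu hu0 (σ i)
      simpa [u, sub_eq_zero] using h1
    have hzero : ∀ i, w i = 0 := by
      intro i
      by_contra hne
      have hpow : ∀ k : ℕ, w ((σ ^ k) i) ≠ 0 := by
        intro k
        induction k with
        | zero => simpa using hne
        | succ k ih =>
          rw [pow_succ', Equiv.Perm.mul_apply, ← hTw]
          exact fun h => ih (hTinj (h.trans (map_zero T).symm))
      obtain ⟨k, -, hk⟩ := hreach i (r i) (hr i).symm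
      refine hpow k ?_
      rw [hk]
      refine if_neg fun hm' => ?_
      rw [hR, Finset.mem_filter] at hm'
      exact hm'.2 (Or.inr (congrArg Quotient.out (Quotient.sound (hr i))))
    rw [Submodule.mem_bot, ← hwv]
    exact Finset.sum_eq_zero fun i _ => hzero i
  have hdim : finrank K ↥(fixSub T) + ∑ i ∈ R, m i ≤ finrank K V := by
    rw [← finrank_finsetSup hind R]
    have h := Submodule.finrank_sup_add_finrank_inf_eq (fixSub T) (R.sup W)
    rw [hmeet, finrank_bot, add_zero] at h
    rw [← h]
    exact Submodule.finrank_le _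
  have hn : finrank K V = ∑ i, m i := by
    rw [← finrank_finsetSup hind Finset.univ, Finset.sup_univ_eq_iSup, htop, finrank_top]
  have hmoved' : ∑ i ∈ moved, m i = ∑ i ∈ Tset, m i + ∑ i ∈ R, m i := by
    rw [← Finset.sum_filter_add_sum_filter_not moved (fun i => r i = i) m]
    congr 1
    · rw [hTset, hmoved, Finset.filter_filter]
    · rw [hR, hmoved, Finset.filter_filter]
      simp only [not_or, ne_eq]
  have hsplit : ∑ i ∈ F, m i + ∑ i ∈ moved, m i = ∑ i, m i :=
    Finset.sum_filter_add_sum_filter_not Finset.univ (fun i => σ i = i) m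
  set d := finrank K ↥(fixSub T)
  set f := ∑ i ∈ F, m i
  set t := ∑ i ∈ Tset, m i
  set R' := ∑ i ∈ R, m i
  have hF' : 3 * f ≤ finrank K V := hF
  have h5t : 5 * t ≤ p * t := Nat.mul_le_mul h5 le_rfl
  omega

end Cfsg.Agent.FixedHalf
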