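import Cfsg.Agent.Lib.FixedHalf.Subquot
import Cfsg.Agent.Lib.HallHigman.Clifford

/-!
# The bound from a group of symplectic type

* `sq_finrank_lt_commutant` : `dim C(T) > (dim ker (T - 1)) ^ 2` for `T ≠ 1`
* `bound_heisenberg_irred` : `R` with scalar commutators, `x` of prime order `p ≥ 5` normalising `R`
  fixed-point-freely modulo scalars, `⟨R, x⟩` irreducible: `2 dim C(x) < dim`
* `bound_heisenberg` : the same for a faithful representation with scalar centre
-/

set_option autoImplicit false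
set_option linter.style.haveILetI false
set_option linter.unusedSectionVars false

open Module
open scoped commutatorElement

namespace Cfsg.Agent.FixedHalf

open HallHigman

variable {K : Type*} [Field K] {W : Type*} [AddCommGroup W] [Module K W]

theorem sq_finrank_lt_commutant [FiniteDimensional K W] (T : Module.End K W) (hT : T ≠ 1) :
    finrank K ↥(fixSub T) * finrank K ↥(fixSub T) < finrank K ↥(intertw T T) := by
  let N := T - 1
  let Φ : ((W ⧸ LinearMap.range N) →ₗ[K] LinearMap.ker N) →ₗ[K] Module.End K W :=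
    { toFun := fun X => (LinearMap.ker N).subtype.comp (X.comp (LinearMap.range N).mkQ)
      map_add' := fun X Y => LinearMap.ext fun w => by simp
      map_smul' := fun c X => LinearMap.ext fun w => by simp }
  have hΦ : Function.Injective Φ := fun X Y h => Submodule.linearMap_qext _ <| LinearMap.ext fun w =>
    Subtype.ext (LinearMap.congr_fun h w)
  have hN : ∀ w, N w = T w - w := fun w => by simp [N]
  have hle : LinearMap.range Φ ≤ intertw T T := by
    rintro _ ⟨X, rfl⟩
    refine LinearMap.ext fun w => ?_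
    have h1 : N (Φ X w) = 0 := (X ((LinearMap.range N).mkQ w)).2
    have h2 : Φ X (N w) = 0 := by
      show ((X ((LinearMap.range N).mkQ (N w)) : LinearMap.ker N) : W) = 0
      rw [Submodule.mkQ_apply, (Submodule.Quotient.mk_eq_zero _).mpr (LinearMap.mem_range_self N w), map_zero,
        Submodule.coe_zero]
    rw [hN, sub_eq_zero] at h1
    rw [hN, map_sub, sub_eq_zero] at h2
    show T (Φ X w) = Φ X (T w)
    rw [h1, h2]
  have hlt : LinearMap.range Φ < intertw T T := by
    refine lt_of_le_of_ne hle fun e => hT ?_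
    obtain ⟨X, hX⟩ : (1 : Module.End K W) ∈ LinearMap.range Φ := e ▸ (show T * 1 = 1 * T by simp)
    refine LinearMap.ext fun w => ?_
    have h1 : N w = 0 := by
      have h2 : Φ X w = w := by rw [hX]; rfl
      rw [← h2]
      exact (X ((LinearMap.range N).mkQ w)).2
    rw [hN, sub_eq_zero] at h1
    exact h1
  refine lt_of_eq_of_lt ?_ (Submodule.finrank_lt_finrank_of_lt hlt)
  rw [LinearMap.finrank_range_of_inj hΦ, Module.finrank_linearMap]
  have h1 := LinearMap.finrank_range_add_finrank_ker N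
  have h2 := (LinearMap.range N).finrank_quotient_add_finrank
  have h3 : finrank K (W ⧸ LinearMap.range N) = finrank K ↥(LinearMap.ker N) := by omega
  rw [h3]
  rfl

theorem map_commutator_eq_one {H : Type*} [Group H] (σ : H →* Module.End K W) {a : H} (b : H)
    {c : K} (hc : σ a = c • 1) : σ ⁅a, b⁆ = 1 := by
  have h : σ a * σ b = σ b * σ a := by rw [hc, smul_mul_assoc, one_mul, mul_smul_comm, mul_one]
  rw [commutatorElement_def, map_mul, map_mul, map_mul, h, mul_assoc (σ b), rho_mul_inv, mul_one,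
    rho_mul_inv]

theorem bound_heisenberg_irred [IsAlgClosed K] [FiniteDimensional K W] {H : Type*} [Group H]
    [Finite H] (σ : H →* Module.End K W) (R : Subgroup H) (x : H)
    (hxR : x ∈ Subgroup.normalizer (R : Set H))
    (hirr : ∀ U : Submodule K W, IsInv σ R U → (∀ u ∈ U, σ x u ∈ U) → U = ⊥ ∨ U = ⊤)
    {p : ℕ} (hp : p.Prime) (h5 : 5 ≤ p) (hx : x ^ p = 1)
    (hcomm : ∀ a ∈ R, ∀ b ∈ R, ∃ c : K, σ ⁅a, b⁆ = c • 1)
    (hfpf : ∀ r ∈ R, (∃ c : K, σ ⁅x, r⁆ = c • 1) → ∃ c : K, σ r = c • 1)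
    (hne : ∃ a ∈ R, ∃ b ∈ R, σ ⁅a, b⁆ ≠ 1) (hpos : 0 < finrank K W) :
    2 * finrank K ↥(fixSub (σ x)) < finrank K W := by
  classical
  haveI : Nontrivial W := Module.nontrivial_of_finrank_pos hpos
  obtain ⟨W₀, -, hW₀⟩ := exists_simple_le (ρ := σ) (Q := R) top_ne_bot
    (fun _ _ _ _ => Submodule.mem_top)
  have hxn : ∀ i : ℕ, x ^ i ∈ Subgroup.normalizer (R : Set H) := fun i => Subgroup.pow_mem _ hxR i
  have hmap0 : W₀.map (σ 1) = W₀ := by
    rw [map_one, Module.End.one_eq_id, Submodule.map_id]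
  by_cases hiso : QIso σ R W₀ (W₀.map (σ x))
  · -- `R` is irreducible
    obtain ⟨W', hW', -, hxW'⟩ := exists_invariant_translate hW₀ hxR hiso
    have htop : W' = ⊤ := (hirr W' hW'.2.1 hxW').resolve_left hW'.1
    have hR : IsIrred σ R := fun U hU => htop ▸ hW'.2.2 U (htop ▸ le_top) hU
    have hT : σ x ≠ 1 := by
      intro hT
      obtain ⟨a, ha, b, hb, hab⟩ := hne
      obtain ⟨c, hc⟩ := hfpf a ha ⟨1, by
        rw [commutatorElement_def, map_mul, map_mul, map_mul, hT, one_mul,
          show σ x⁻¹ = 1 by rw [← rho_inv_mul (ρ := σ) x, hT, mul_one],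
          mul_one, rho_mul_inv, one_smul]⟩
      exact hab (map_commutator_eq_one σ b hc)
    -- scalar commutators with powers of `x`
    have hfree : ∀ g : R, ∀ j, 0 < j → j < p →
        g⁻¹ * ((R.normalizerMonoidHom ⟨x, hxR⟩) ^ j) g ∈ scalarSubgroup σ R →
          g ∈ scalarSubgroup σ R := by
      intro g j hj hjp hg
      rw [← map_pow] at hg
      obtain ⟨c, hc⟩ := hg
      have hj' : ∃ c : K, σ ⁅x ^ j, (g : H)⁆ = c • 1 := by
        refine ⟨c, ?_⟩
        have h1 : σ ((g : H)⁻¹ * (x ^ j * g * (x ^ j)⁻¹)) = c • 1 := hc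
        calc σ ⁅x ^ j, (g : H)⁆
            = σ (g : H) * σ ((g : H)⁻¹ * (x ^ j * g * (x ^ j)⁻¹)) * σ (g : H)⁻¹ := by
              rw [← map_mul, ← map_mul]; simp [commutatorElement_def, mul_assoc]
          _ = c • 1 := by rw [h1, mul_smul_comm, mul_one, smul_mul_assoc, rho_mul_inv]
      have hall : ∀ m : ℕ, ∃ c : K, σ ⁅(x ^ j) ^ m, (g : H)⁆ = c • 1 := by
        intro m
        induction m with
        | zero => exact ⟨1, by simp⟩
        | succ m ih =>
          obtain ⟨a, ha⟩ := ih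
          obtain ⟨b, hb⟩ := hj'
          refine ⟨a * b, ?_⟩
          rw [pow_succ', show ⁅x ^ j * (x ^ j) ^ m, (g : H)⁆ =
              x ^ j * ⁅(x ^ j) ^ m, (g : H)⁆ * (x ^ j)⁻¹ * ⁅x ^ j, (g : H)⁆ by
            simp only [commutatorElement_def]; group, map_mul, map_mul, map_mul, ha, hb,
            mul_smul_comm a (σ (x ^ j)), mul_one, smul_mul_assoc, rho_mul_inv, smul_mul_smul_comm,
            one_mul]
      obtain ⟨m, hm⟩ : ∃ m, (x ^ j) ^ m = x := by
        refine ⟨(Nat.gcdA j p % p).toNat, ?_⟩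
        have hco : Nat.Coprime j p :=
          (Nat.Prime.coprime_iff_not_dvd hp).mpr (Nat.not_dvd_of_pos_of_lt hj hjp) |>.symm
        rw [← pow_mul, pow_eq_pow_mod _ hx]
        have h1 : ((j * (Nat.gcdA j p % p).toNat : ℕ) : ZMod p) = 1 := by
          have h2 := congrArg (Int.cast (R := ZMod p)) (Nat.gcd_eq_gcd_ab j p)
          rw [hco.gcd_eq_one] at h2
          have h3 : (((Nat.gcdA j p % p).toNat : ℤ)) = Nat.gcdA j p % p :=
            Int.toNat_of_nonneg (Int.emod_nonneg _ (by exact_mod_cast hp.ne_zero))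
          rw [Nat.cast_mul, ← Int.cast_natCast (R := ZMod p) (Nat.gcdA j p % ↑p).toNat, h3,
            ZMod.intCast_mod]
          simpa using h2.symm
        rw [← ZMod.val_natCast, h1]
        haveI : Fact (1 < p) := ⟨hp.one_lt⟩
        rw [ZMod.val_one, pow_one]
      exact hfpf g g.2 (hm ▸ hall m)
    have h0 := finrank_commutant_mul hR hcomm (σ x) (σ x⁻¹) (rho_mul_inv x) (rho_inv_mul x)
      (R.normalizerMonoidHom ⟨x, hxR⟩) (fun g => by rw [← map_mul, ← map_mul]; rfl) hp.pos
      (by rw [← map_pow, hx, map_one])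
      (by rw [← map_pow, show (⟨x, hxR⟩ : Subgroup.normalizer (R : Set H)) ^ p = 1 from
        Subtype.ext (by simpa using hx), map_one]) hfree
    have h1 := sq_finrank_lt_commutant (σ x) hT
    set c := finrank K ↥(fixSub (σ x))
    set d := finrank K W
    by_contra hcon
    push Not at hcon
    have h2 : p * (c * c) ≤ d * d - 1 := h0 ▸ Nat.mul_le_mul_left p (by omega)
    have h3 : d * d ≤ (2 * c) * (2 * c) := Nat.mul_le_mul hcon hcon
    have h4 : 5 * (c * c) ≤ p * (c * c) := Nat.mul_le_mul_right _ h5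
    have h5 : 1 ≤ d * d := Nat.mul_pos hpos hpos
    have h6 : d * d ≤ 4 * (c * c) := h3.trans (le_of_eq (by ring))
    omega
  -- `p` non-isomorphic translates, permuted without fixed point
  haveI : NeZero p := ⟨hp.ne_zero⟩
  haveI : Fact (1 < p) := ⟨hp.one_lt⟩
  let U : ZMod p → Submodule K W := fun i => W₀.map (σ (x ^ i.val))
  have hU : ∀ i, IsSimpleInv σ R (U i) := fun i => hW₀.map (hxn _)
  have hstep : ∀ i : ZMod p, (U i).map (σ x) = U (i + 1) := by
    intro i
    simp only [U, map_map_rho]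
    congr 2
    rw [← pow_succ', ZMod.val_add, ← pow_eq_pow_mod _ hx, ZMod.val_one]
  have hU0 : U 0 = W₀ := by simp only [U, ZMod.val_zero, pow_zero, hmap0]
  have hpowU : ∀ (n : ℕ) (i : ZMod p), (U i).map (σ (x ^ n)) = U (i + n) := by
    intro n
    induction n with
    | zero => intro i; simp [Module.End.one_eq_id]
    | succ n ih =>
      intro i
      rw [pow_succ', ← map_map_rho, ih, hstep, Nat.cast_succ, add_assoc]
  have hdist : ∀ i j, i ≠ j → ¬ QIso σ R (U i) (U j) := by
    intro i j hij h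
    set d := j - i
    have h1 : QIso σ R (U 0) (U d) := by
      have h2 := h.map (a := x ^ (-i).val) (hxn _)
      rwa [hpowU, hpowU, ZMod.natCast_zmod_val, add_neg_cancel, ← sub_eq_add_neg] at h2
    have h3 : ∀ m : ℕ, QIso σ R (U 0) (U (m * d)) := by
      intro m
      induction m with
      | zero => simpa using QIso.refl (U 0)
      | succ m ih =>
        have h4 := h1.map (a := x ^ ((m : ZMod p) * d).val) (hxn _)
        rw [hpowU, hpowU, ZMod.natCast_zmod_val, zero_add] at h4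
        rw [Nat.cast_succ, add_one_mul, add_comm]
        exact ih.trans (hU 0).2.1 h4
    haveI : Fact p.Prime := ⟨hp⟩
    have h4 := h3 (d⁻¹).val
    rw [ZMod.natCast_zmod_val, inv_mul_cancel₀ (sub_ne_zero.mpr hij.symm), hU0, ← zero_add (1 : ZMod p),
      ← hstep, hU0] at h4
    exact hiso h4
  have hind : iSupIndep U := by
    intro i
    rw [disjoint_iff_inf_le]
    refine le_trans (inf_le_inf_left _ ?_) (inf_biSup_eq_bot (Finset.univ.erase i) U
      (fun j _ => hU j) (fun a _ b _ hab => hdist a b hab) (U i) (hU i)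
      fun j hj => hdist i j (Finset.ne_of_mem_erase hj).symm).le
    exact iSup₂_le fun j hj => le_iSup₂_of_le j (Finset.mem_erase.mpr ⟨hj, Finset.mem_univ j⟩) le_rfl
  have htop : iSup U = ⊤ := by
    refine (hirr _ ?_ ?_).resolve_left fun h => (hU 0).1 (le_bot_iff.mp (h ▸ le_iSup U 0))
    · intro g hg u hu
      have : iSup U ≤ (iSup U).comap (σ g) := iSup_le fun i w hw =>
        Submodule.mem_iSup_of_mem i ((hU i).2.1 g hg w hw)
      exact this hu
    · intro u hu
      have : iSup U ≤ (iSup U).comap (σ x) := iSup_le fun i w hw =>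
        Submodule.mem_iSup_of_mem (i + 1) ((hstep i).le ⟨w, hw, rfl⟩)
      exact this hu
  refine two_mul_finrank_fixSub_lt hind htop hp h5 (σ x) (by rw [← map_pow, hx, map_one])
    (Equiv.addRight (1 : ZMod p)) ?_ (fun i w hw => (hstep i).le ⟨w, hw, rfl⟩) ?_ hpos
  · refine Equiv.ext fun i => ?_
    have : ∀ n : ℕ, ((Equiv.addRight (1 : ZMod p)) ^ n) i = i + n := by
      intro n
      induction n with
      | zero => simp
      | succ n ih => rw [pow_succ', Equiv.Perm.mul_apply, ih, Nat.cast_succ, ← add_assoc]; rfl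
    rw [this, ZMod.natCast_self, add_zero, Equiv.Perm.one_apply]
  · rw [Finset.filter_false_of_mem fun i _ => by simp, Finset.sum_empty, mul_zero]
    exact Nat.zero_le _

/-- The bound from a subgroup `R` of symplectic type in a faithful representation with scalar centre. -/
theorem bound_heisenberg [IsAlgClosed K] [FiniteDimensional K W] {G : Type*} [Group G] [Finite G]
    (ρ : G →* Module.End K W) (hinj : Function.Injective ρ)
    (hcen : ∀ z ∈ Subgroup.center G, ∃ c : K, ρ z = c • 1)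
    {p : ℕ} (hp : p.Prime) (h5 : 5 ≤ p) {x : G} (hx : orderOf x = p) (R : Subgroup G)
    (hxR : x ∈ Subgroup.normalizer (R : Set G))
    (hRR : ∀ a ∈ R, ∀ b ∈ R, ⁅a, b⁆ ∈ Subgroup.center G)
    (hZR : ∀ r ∈ R, (∀ s ∈ R, ⁅r, s⁆ = 1) → r ∈ Subgroup.center G)
    (hfpf : ∀ r ∈ R, ⁅x, r⁆ ∈ Subgroup.center G → r ∈ Subgroup.center G)
    (hnab : ∃ a ∈ R, ∃ b ∈ R, ⁅a, b⁆ ≠ 1) (hpos : 0 < finrank K W) :
    2 * finrank K ↥(fixSub (ρ x)) < finrank K W := by
  classical
  let H : Subgroup G := R ⊔ Subgroup.zpowers x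
  have hRH : R ≤ H := le_sup_left
  have hxH : x ∈ H := Subgroup.mem_sup_right (Subgroup.mem_zpowers x)
  haveI := Fintype.ofFinite H
  refine bound_of_kills (ρ.comp H.subtype) (⟨x, hxH⟩ : H) ?_ hpos
  intro U _ _ _ σ hk hirr hpos'
  haveI : Nontrivial U := Module.nontrivial_of_finrank_pos hpos'
  haveI : Nontrivial W := Module.nontrivial_of_finrank_pos hpos
  have hscal : ∀ z : H, (z : G) ∈ Subgroup.center G → ∃ c : K, ρ (z : G) = c • 1 ∧ σ z = c • 1 := by
    intro z hz
    obtain ⟨c, hc⟩ := hcen _ hz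
    exact ⟨c, hc, hk.scalar hc⟩
  have hone : ∀ z : H, (z : G) ∈ Subgroup.center G → σ z = 1 → (z : G) = 1 := by
    intro z hz h1
    obtain ⟨c, hc, hc'⟩ := hscal z hz
    have : c = 1 := eq_of_smul_one_eq (W := U) (by rw [← hc', h1, one_smul])
    exact hinj (by rw [hc, this, one_smul, map_one])
  have hZ : ∀ r : H, (r : G) ∈ R → (∃ c : K, σ r = c • 1) → (r : G) ∈ Subgroup.center G := by
    rintro r hr ⟨c, hc⟩
    refine hZR _ hr fun s hs => ?_
    exact hone ⁅r, ⟨s, hRH hs⟩⁆ (hRR _ hr _ hs) (map_commutator_eq_one σ _ hc)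
  have hxR' : (⟨x, hxH⟩ : H) ∈ Subgroup.normalizer (R.subgroupOf H : Set H) :=
    Subgroup.mem_normalizer_iff.mpr fun r => Subgroup.mem_normalizer_iff.mp hxR (r : G)
  refine bound_heisenberg_irred σ (R.subgroupOf H) ⟨x, hxH⟩ hxR' ?_ hp h5
    (Subtype.ext (by rw [SubgroupClass.coe_pow, OneMemClass.coe_one, ← hx]; exact pow_orderOf_eq_one x))
    ?_ ?_ ?_ hpos'
  · intro V hVR hVx
    refine hirr V fun g _ => ?_
    have hle : H ≤ (stabSub σ V).map H.subtype := by
      refine sup_le (fun r hr => ⟨⟨r, hRH hr⟩, hVR _ hr, rfl⟩) ?_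
      exact Subgroup.zpowers_le.mpr ⟨⟨x, hxH⟩, hVx, rfl⟩
    obtain ⟨g', hg', he⟩ := hle g.2
    rw [← Subtype.ext he]
    exact hg'
  · intro a ha b hb
    obtain ⟨c, -, hc⟩ := hscal ⁅a, b⁆ (hRR _ ha _ hb)
    exact ⟨c, hc⟩
  · intro r hr hc
    have hmem : ((⁅(⟨x, hxH⟩ : H), r⁆ : H) : G) ∈ R := R.mul_mem
      ((Subgroup.mem_normalizer_iff.mp hxR r).mp hr) (R.inv_mem hr)
    obtain ⟨c', -, hc'⟩ := hscal r (hfpf r hr (hZ _ hmem hc))
    exact ⟨c', hc'⟩
  · obtain ⟨a, ha, b, hb, hab⟩ := hnab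
    exact ⟨⟨a, hRH ha⟩, ha, ⟨b, hRH hb⟩, hb, fun h => hab (hone _ (hRR _ ha _ hb) h)⟩

end Cfsg.Agent.FixedHalf
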