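import Cfsg.Agent.Lib.FixedHalf.Weights
import Cfsg.Agent.Lib.FixedHalf.Heisenberg
import Cfsg.Agent.Lib.FixedHalf.Central
import Mathlib.FieldTheory.IsAlgClosed.AlgebraicClosure

/-!
# Fixed spaces of generating elements of prime order in soluble linear groups

* `bound_irred` : the bound over an algebraically closed field
* `two_mul_finrank_fixSub_lt_of_solvable` : `G` soluble, generated by the conjugates of `x` of prime
  order `p ≥ 5`, acting faithfully and irreducibly in positive characteristic: `2 dim C_V(x) < dim V`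
-/

set_option autoImplicit false
set_option linter.style.haveILetI false
set_option linter.unusedSectionVars false

open Module
open scoped commutatorElement TensorProduct

namespace Cfsg.Agent.FixedHalf

open HallHigman

universe u v w

variable {K : Type*} [Field K] {V : Type*} [AddCommGroup V] [Module K V] [FiniteDimensional K V]
  {G : Type*} [Group G] [Finite G] {ρ : G →* Module.End K V}

/-- An abelian normal subgroup has order prime to the characteristic. -/
theorem card_ne_zero (ℓ : ℕ) [Fact ℓ.Prime] [CharP K ℓ] [Nontrivial V] (hirr : IsIrred ρ ⊤)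
    (hinj : Function.Injective ρ) (A : Subgroup G) [A.Normal] [IsMulCommutative A] :
    (Nat.card A : K) ≠ 0 := by
  classical
  intro h0
  rw [CharP.cast_eq_zero_iff K ℓ] at h0
  obtain ⟨a, ha⟩ := exists_prime_orderOf_dvd_card' ℓ h0
  haveI : CharP (Module.End K V) ℓ :=
    charP_of_injective_algebraMap (algebraMap K (Module.End K V)).injective ℓ
  have hfix : ∀ s : Finset G, (∀ e ∈ s, e ∈ A ∧ e ^ ℓ = 1) →
      ∃ u : V, u ≠ 0 ∧ ∀ e ∈ s, ρ e u = u := by
    intro s
    induction s using Finset.induction_on with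
    | empty => intro _; obtain ⟨u, hu⟩ := exists_ne (0 : V); exact ⟨u, hu, by simp⟩
    | insert b s hbs ih =>
      intro hs
      obtain ⟨u, hu, hus⟩ := ih fun e he => hs e (Finset.mem_insert_of_mem he)
      obtain ⟨hb, hbℓ⟩ := hs b (Finset.mem_insert_self b s)
      set T := ρ b - 1
      have hT : T ^ ℓ = 0 := by
        rw [sub_pow_char_of_commute (R := Module.End K V) (p := ℓ) (Commute.one_right _), one_pow,
          ← map_pow, hbℓ, map_one, sub_self]
      have hex : ∃ j, (T ^ j) u = 0 := ⟨ℓ, by rw [hT]; rfl⟩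
      obtain ⟨j, hj, hjmin⟩ : ∃ j, (T ^ (j + 1)) u = 0 ∧ (T ^ j) u ≠ 0 := by
        cases hk : Nat.find hex with
        | zero => exact absurd (by simpa [hk] using Nat.find_spec hex) hu
        | succ j => exact ⟨j, hk ▸ Nat.find_spec hex, Nat.find_min hex (by omega)⟩
      refine ⟨(T ^ j) u, hjmin, fun e he => ?_⟩
      rcases Finset.mem_insert.mp he with rfl | he'
      · rw [pow_succ', Module.End.mul_apply] at hj
        simpa [T, sub_eq_zero] using hj
      · have hc : Commute (ρ e) T :=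
          ((Commute.map (congrArg Subtype.val (mul_comm' (⟨e, (hs e he).1⟩ : A) ⟨b, hb⟩)) ρ).sub_right
            (Commute.one_right _))
        rw [← Module.End.mul_apply, (hc.pow_right j).eq, Module.End.mul_apply, hus e he']
  haveI := Fintype.ofFinite G
  let U : Submodule K V := ⨅ (e : G) (_ : e ∈ A ∧ e ^ ℓ = 1), fixSub (ρ e)
  have hU : ∀ v, v ∈ U ↔ ∀ e, e ∈ A ∧ e ^ ℓ = 1 → ρ e v = v := fun v => by
    simp [U, Submodule.mem_iInf, mem_fixSub]
  have hUinv : ∀ g ∈ (⊤ : Subgroup G), ∀ u ∈ U, ρ g u ∈ U := fun g _ u hu => by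
    rw [hU] at hu ⊢
    intro e he
    have h1 := hu (g⁻¹ * e * g) ⟨by
      have := Subgroup.Normal.conj_mem (inferInstance : A.Normal) e he.1 g⁻¹
      simpa using this, by
      have := conj_pow (i := ℓ) (a := g⁻¹) (b := e)
      rw [inv_inv] at this
      rw [this, he.2, mul_one, inv_mul_cancel]⟩
    calc ρ e (ρ g u) = ρ g (ρ (g⁻¹ * e * g) u) := by
          rw [← Module.End.mul_apply, ← map_mul, ← Module.End.mul_apply, ← map_mul]; group
      _ = ρ g u := by rw [h1]
  rcases hirr U hUinv with h | h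
  · obtain ⟨u, hu, hus⟩ := hfix (Finset.univ.filter fun e => e ∈ A ∧ e ^ ℓ = 1)
      fun e he => (Finset.mem_filter.mp he).2
    exact hu ((Submodule.eq_bot_iff _).mp h u
      ((hU u).mpr fun e he => hus e (Finset.mem_filter.mpr ⟨Finset.mem_univ e, he⟩)))
  · have h1 : (a : G) = 1 := hinj (by
      rw [map_one]
      exact LinearMap.ext fun v => (hU v).mp (h ▸ Submodule.mem_top) a
        ⟨a.2, by rw [← ha, ← SubgroupClass.coe_pow, pow_orderOf_eq_one, OneMemClass.coe_one]⟩)
    rw [show a = 1 from Subtype.ext h1, orderOf_one] at ha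
    exact (Fact.out : ℓ.Prime).one_lt.ne ha

/-- The bound over an algebraically closed field. -/
theorem bound_irred [IsAlgClosed K] [Group.IsSolvable G] (ℓ : ℕ) [Fact ℓ.Prime] [CharP K ℓ]
    (hirr : IsIrred ρ ⊤) (hinj : Function.Injective ρ) {p : ℕ} (hp : p.Prime) (h5 : 5 ≤ p) {x : G}
    (hx : orderOf x = p) (hgen : Subgroup.normalClosure ({x} : Set G) = ⊤) (hpos : 0 < finrank K V) :
    2 * finrank K ↥(fixSub (ρ x)) < finrank K V := by
  haveI : Nontrivial V := Module.nontrivial_of_finrank_pos hpos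
  have hxp : x ^ p = 1 := hx ▸ pow_orderOf_eq_one x
  have hcen : ∀ z ∈ Subgroup.center G, ∃ c : K, ρ z = c • 1 := fun z hz =>
    mem_scalar_of_commute hirr _ fun g _ => Commute.map (Subgroup.mem_center_iff.mp hz g).symm ρ
  by_cases hxc : x ∈ Subgroup.center G
  · obtain ⟨c, hc⟩ := hcen x hxc
    have hc1 : c ≠ 1 := fun h => by
      rw [h, one_smul, ← map_one ρ] at hc
      rw [hinj hc, orderOf_one] at hx
      exact hp.one_lt.ne hx
    have h0 : fixSub (ρ x) = ⊥ := (Submodule.eq_bot_iff _).mpr fun v hv => by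
      rw [mem_fixSub, hc, LinearMap.smul_apply, Module.End.one_apply] at hv
      by_contra hv0
      exact hc1 (smul_left_injective K hv0 (by simpa using hv))
    rw [h0, finrank_bot]
    simpa using hpos
  by_cases hA : ∃ A : Subgroup G, A.Normal ∧ IsMulCommutative A ∧ ¬ A ≤ Subgroup.center G
  · obtain ⟨A, hA1, hA2, hA3⟩ := hA
    exact bound_of_normal_abelian (card_ne_zero ℓ hirr hinj A) hirr hinj hp h5 hx hgen hA3 hpos
  push Not at hA
  have hab : ∀ A : Subgroup G, A.Normal → IsMulCommutative A → A ≤ Subgroup.center G := hA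
  obtain ⟨N, hN, hNZ, hmin, hcomm, q, hq, hqZ⟩ :=
    exists_minimal_noncentral (G := G) fun h => hxc (h (Subgroup.mem_top x))
  haveI := hN
  rcases eq_or_ne q p with rfl | hqp
  swap
  · obtain ⟨R, hR1, hR2, hR3, hR4, hR5⟩ :=
      exists_symplectic hcomm hgen hNZ hab hp hq hqp hxp hqZ
    exact bound_heisenberg ρ hinj hcen hp h5 hx R hR1 hR2 hR3 hR4 hR5 hpos
  haveI := Fact.mk hp
  obtain ⟨n₀, hn₀, hn₀'⟩ := exists_not_quadratic hgen hNZ hmin hab hp h5 hqZ
  set Z := Subgroup.center G with hZdef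
  set π := QuotientGroup.mk' Z with hπdef
  have hxN : ∀ n ∈ N, x * n * x⁻¹ ∈ N := fun n hn => hN.conj_mem n hn x
  have hcx : ∀ n ∈ N, ⁅x, n⁆ ∈ N := fun n hn => N.mul_mem (hxN n hn) (N.inv_mem hn)
  -- iterated commutators end in the centre
  let sq : ℕ → G := fun i => Nat.recOn i n₀ fun _ m => ⁅x, m⁆
  have hsq : ∀ i, sq i ∈ N := fun i => by
    induction i with
    | zero => exact hn₀
    | succ i ih => exact hcx _ ih
  have hpgroup : IsPGroup q ↥(Subgroup.zpowers (π x) ⊔ N.map π) := by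
    haveI : (N.map π).Normal := Subgroup.Normal.map inferInstance _ (QuotientGroup.mk'_surjective _)
    refine IsPGroup.to_sup_of_normal_right ?_ ?_
    · rintro ⟨_, i, rfl⟩
      refine ⟨1, Subtype.ext ?_⟩
      rw [pow_one, SubgroupClass.coe_pow, OneMemClass.coe_one]
      show (π x ^ i) ^ q = 1
      rw [← zpow_natCast, ← zpow_mul, mul_comm, zpow_mul, zpow_natCast, ← map_pow, hxp, map_one,
        one_zpow]
    · rintro ⟨_, n, hn, rfl⟩
      exact ⟨1, Subtype.ext (by
        rw [pow_one, SubgroupClass.coe_pow, OneMemClass.coe_one, ← map_pow]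
        exact mk_eq_one.mpr (hqZ n hn))⟩
  obtain ⟨m, hm⟩ : ∃ m, sq m ∈ Z := by
    set H := Subgroup.zpowers (π x) ⊔ N.map π
    haveI : Group.IsNilpotent H := hpgroup.isNilpotent
    obtain ⟨c, hc⟩ := (Subgroup.isNilpotent_iff_lowerCentralSeries H).mp inferInstance
    refine ⟨c, mk_eq_one.mp ?_⟩
    have hH : ∀ i, π (sq i) ∈ H.lowerCentralSeries i := by
      intro i
      induction i with
      | zero =>
        rw [Subgroup.lowerCentralSeries_zero]
        exact Subgroup.mem_sup_right ⟨_, hn₀, rfl⟩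
      | succ i ih =>
        show π ⁅x, sq i⁆ ∈ _
        rw [map_commutatorElement, Subgroup.lowerCentralSeries_succ, ← commutatorElement_inv]
        exact Subgroup.inv_mem _ (Subgroup.commutator_mem_commutator ih
          (Subgroup.mem_sup_left (Subgroup.mem_zpowers _)))
    exact Subgroup.mem_bot.mp (hc ▸ hH c)
  classical
  have hex : ∃ m, sq m ∈ Z := ⟨m, hm⟩
  obtain ⟨i, n, w, z, hn, hw_def, hz_def, hzZ, hxz⟩ :
      ∃ (i : ℕ) (n w z : G), n ∈ N ∧ w = ⁅x, n⁆ ∧ z = ⁅x, w⁆ ∧ z ∉ Z ∧ ⁅x, z⁆ ∈ Z := by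
    have h3 : 3 ≤ Nat.find hex := by
      rw [Nat.le_find_iff]
      intro j hj hj'
      have h2 : sq 2 ∈ Z := by
        have hstep : ∀ y ∈ Z, ⁅x, y⁆ ∈ Z := fun y hy => by
          rw [← commutatorElement_inv, commutator_eq_one_of_mem_center_left hy, inv_one]
          exact Subgroup.one_mem _
        rcases (show j = 0 ∨ j = 1 ∨ j = 2 by omega) with rfl | rfl | rfl
        · exact hstep _ (hstep _ hj')
        · exact hstep _ hj'
        · exact hj'
      exact hn₀' h2
    obtain ⟨i, hi⟩ : ∃ i, Nat.find hex = i + 3 := ⟨Nat.find hex - 3, by omega⟩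
    exact ⟨i, sq i, sq (i + 1), sq (i + 2), hsq i, rfl, rfl, Nat.find_min hex (m := i + 2) (by omega),
      (by have := Nat.find_spec hex; rw [hi] at this; exact this)⟩
  have hwN : w ∈ N := hw_def ▸ hcx n hn
  have hzN : z ∈ N := hz_def ▸ hcx w hwN
  have hwz : ⁅w, z⁆ = 1 := by
    have h1 : x * ⁅n, z⁆ * x⁻¹ = ⁅n, z⁆ := by
      rw [Subgroup.mem_center_iff.mp (hcomm n hn z hzN) x, mul_inv_cancel_right]
    have h2 : x * ⁅n, z⁆ * x⁻¹ = ⁅w * n, ⁅x, z⁆ * z⁆ := by
      rw [hw_def]; simp only [commutatorElement_def]; group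
    rw [h1, commutator_mul_left (hcomm n hn _ (N.mul_mem (hcx z hzN) hzN)),
      commutator_mul_right (hcomm n hn z hzN), commutator_mul_right (hcomm w hwN z hzN),
      show ⁅n, ⁅x, z⁆⁆ = 1 by rw [← commutatorElement_inv, commutator_eq_one_of_mem_center_left hxz, inv_one],
      show ⁅w, ⁅x, z⁆⁆ = 1 by rw [← commutatorElement_inv, commutator_eq_one_of_mem_center_left hxz, inv_one],
      one_mul, one_mul, right_eq_mul] at h2
    exact h2
  -- the abelian subgroup
  set A := Subgroup.closure ({w, z} ∪ ((N ⊓ Z : Subgroup G) : Set G)) with hAdef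
  have hwA : w ∈ A := Subgroup.subset_closure (Or.inl (Or.inl rfl))
  have hzA : z ∈ A := Subgroup.subset_closure (Or.inl (Or.inr rfl))
  have hcA : ∀ c ∈ N, c ∈ Z → c ∈ A := fun c h1 h2 => Subgroup.subset_closure (Or.inr ⟨h1, h2⟩)
  have hAN : A ≤ N := (Subgroup.closure_le _).mpr (by
    rintro a ((rfl | rfl) | ha)
    exacts [hwN, hzN, ha.1])
  haveI : IsMulCommutative A := Subgroup.isMulCommutative_closure (by
    have hwz' : w * z = z * w := commutatorElement_eq_one_iff_mul_comm.mp hwz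
    rintro a ha b hb
    have hz : ∀ c, c ∈ N ⊓ Z → ∀ g, c * g = g * c := fun c hc g =>
      (Subgroup.mem_center_iff.mp hc.2 g).symm
    rcases ha with (rfl | rfl) | ha <;> rcases hb with (rfl | rfl) | hb
    all_goals first | rfl | exact hwz' | exact hwz'.symm | exact hz _ ha _ | exact (hz _ hb _).symm)
  have hnorm : ∀ g : G, (∀ a ∈ ({w, z} : Set G), g * a * g⁻¹ ∈ A) →
      g ∈ Subgroup.normalizer (A : Set G) := by
    intro g hg
    refine Subgroup.mem_normalizer_fintype fun a ha => ?_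
    induction ha using Subgroup.closure_induction with
    | mem a ha =>
      rcases ha with ha | ha
      · exact hg a ha
      · rw [Subgroup.mem_center_iff.mp ha.2 g, mul_inv_cancel_right]
        exact hcA a ha.1 ha.2
    | one => simp
    | mul a b _ _ iha ihb =>
      rw [show g * (a * b) * g⁻¹ = (g * a * g⁻¹) * (g * b * g⁻¹) by group]
      exact A.mul_mem iha ihb
    | inv a _ iha =>
      rw [show g * a⁻¹ * g⁻¹ = (g * a * g⁻¹)⁻¹ by group]
      exact A.inv_mem iha
  have hxA : x ∈ Subgroup.normalizer (A : Set G) := hnorm x (by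
    rintro a (rfl | rfl)
    · rw [show x * a * x⁻¹ = ⁅x, a⁆ * a by simp [commutatorElement_def], ← hz_def]
      exact A.mul_mem hzA hwA
    · rw [show x * a * x⁻¹ = ⁅x, a⁆ * a by simp [commutatorElement_def]]
      exact A.mul_mem (hcA _ (hcx _ hzN) hxz) hzA)
  have hNA : N ≤ Subgroup.normalizer (A : Set G) := fun m hm => hnorm m (by
    intro a ha
    have haA : a ∈ A := Subgroup.subset_closure (Or.inl ha)
    rw [show m * a * m⁻¹ = ⁅m, a⁆ * a by simp [commutatorElement_def]]
    exact A.mul_mem (hcA _ (N.mul_mem (hN.conj_mem a (hAN haA) m) (N.inv_mem (hAN haA)))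
      (hcomm m hm a (hAN haA))) haA)
  have hne : ∃ m ∈ N, ⁅x, m⁆ ∉ Subgroup.centralizer (A : Set G) := by
    by_contra hcon
    push Not at hcon
    refine hzZ (hab (N ⊓ Subgroup.centralizer (N : Set G)) inferInstance
      ⟨⟨fun a b => Subtype.ext (b.2.2 a a.2.1)⟩⟩ ⟨hzN, fun m hm => ?_⟩)
    apply commutatorElement_eq_one_iff_mul_comm.mp
    have h1 : x * ⁅m, w⁆ * x⁻¹ = ⁅m, w⁆ := by
      rw [Subgroup.mem_center_iff.mp (hcomm m hm w hwN) x, mul_inv_cancel_right]
    have h2 : x * ⁅m, w⁆ * x⁻¹ = ⁅⁅x, m⁆ * m, z * w⁆ := by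
      rw [hz_def]; simp only [commutatorElement_def]; group
    have ha : ∀ a ∈ A, ⁅⁅x, m⁆, a⁆ = 1 := fun a ha =>
      commutatorElement_eq_one_iff_mul_comm.mpr ((hcon m hm a ha).symm)
    rw [h1, commutator_mul_left (hcomm m hm _ (N.mul_mem hzN hwN)), ha _ (A.mul_mem hzA hwA), one_mul,
      commutator_mul_right (hcomm m hm w hwN), right_eq_mul] at h2
    exact h2
  have hZ0 : (Nat.card Z : K) ≠ 0 := card_ne_zero ℓ hirr hinj Z
  have hqℓ : q ≠ ℓ := by
    rintro rfl
    obtain ⟨m, hm, hm'⟩ := hne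
    obtain ⟨a, ha, b, hb, hab'⟩ : ∃ a ∈ N, ∃ b ∈ N, ⁅a, b⁆ ≠ 1 := by
      by_contra hcon
      push Not at hcon
      exact hNZ (hab N hN ⟨⟨fun a b => Subtype.ext
        (commutatorElement_eq_one_iff_mul_comm.mp (hcon a a.2 b b.2))⟩⟩)
    have h1 : orderOf (⟨⁅a, b⁆, hcomm a ha b hb⟩ : Z) = q :=
      orderOf_eq_prime (Subtype.ext (by
        show ⁅a, b⁆ ^ q = 1
        rw [← commutator_pow_left (hcomm a ha b hb), commutator_eq_one_of_mem_center_left (hqZ a ha)]))
        fun h => hab' (congrArg Subtype.val h)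
    exact hZ0 ((CharP.cast_eq_zero_iff K q _).mpr (h1 ▸ orderOf_dvd_natCard _))
  have hA0 : (Nat.card A : K) ≠ 0 := by
    intro h0
    rw [CharP.cast_eq_zero_iff K ℓ] at h0
    obtain ⟨a, ha⟩ := exists_prime_orderOf_dvd_card' ℓ h0
    rw [← Subgroup.orderOf_coe] at ha
    have h1 := orderOf_dvd_natCard (⟨(a : G) ^ q, hqZ _ (hAN a.2)⟩ : Z)
    rw [← Subgroup.orderOf_coe, orderOf_pow, ha,
      (Nat.coprime_primes (Fact.out : ℓ.Prime) hp).mpr hqℓ.symm, Nat.div_one] at h1
    exact hZ0 ((CharP.cast_eq_zero_iff K ℓ _).mpr h1)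
  exact bound_of_abelian_in (N := N) hA0 hinj hp h5 hx hxA
    (Subgroup.normalizer_eq_top N ▸ Subgroup.mem_top x) hNA
    (fun a ha m hm => hcen _ (hcomm a (hAN ha) m hm))
    (Subgroup.commutator_le.mpr fun a ha b hb c _ =>
      (Subgroup.mem_center_iff.mp (hcomm a ha b hb) c))
    hne hpos

omit [Finite G] in
/-- The bound over an arbitrary field of positive characteristic. -/
theorem two_mul_finrank_fixSub_lt_of_solvable {k : Type u} [Field k] {W : Type v} [AddCommGroup W]
    [Module k W] [FiniteDimensional k W] {H : Type w} [Group H] [Finite H] [Group.IsSolvable H]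
    (ℓ : ℕ) [Fact ℓ.Prime] [CharP k ℓ] (ρ : H →* Module.End k W) (hirr : IsIrred ρ ⊤)
    (hinj : Function.Injective ρ) {p : ℕ} (hp : p.Prime) (h5 : 5 ≤ p) {x : H} (hx : orderOf x = p)
    (hgen : Subgroup.normalClosure ({x} : Set H) = ⊤) (hpos : 0 < finrank k W) :
    2 * finrank k ↥(fixSub (ρ x)) < finrank k W := by
  classical
  haveI : Nontrivial W := Module.nontrivial_of_finrank_pos hpos
  haveI := Fintype.ofFinite H
  haveI : CharP (AlgebraicClosure k) ℓ :=
    charP_of_injective_algebraMap (algebraMap k (AlgebraicClosure k)).injective ℓ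
  let β := (Module.End.baseChangeHom k (AlgebraicClosure k) W)
  let ρK : H →* Module.End (AlgebraicClosure k) (AlgebraicClosure k ⊗[k] W) :=
    β.toMonoidHom.comp ρ
  have hdim : finrank (AlgebraicClosure k) (AlgebraicClosure k ⊗[k] W) = finrank k W :=
    Module.finrank_baseChange
  have hle : finrank k ↥(fixSub (ρ x)) ≤ finrank (AlgebraicClosure k) ↥(fixSub (ρK x)) :=
    finrank_fixSub_le_baseChange (AlgebraicClosure k) (ρ x)
  -- a normal subgroup with vanishing sum inside every nontrivial normal subgroup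
  have hsum : ∀ N : Subgroup H, N.Normal → N ≠ ⊥ → ∃ A : Subgroup H, A ≤ N ∧
      (Nat.card A : k) ≠ 0 ∧ ∑ g ∈ Finset.univ.filter (· ∈ A), ρ g = 0 := by
    intro N hN hN0
    haveI := hN
    obtain ⟨A, hAN, hA, hA0, hAc⟩ : ∃ A ≤ N, A.Normal ∧ A ≠ ⊥ ∧ IsMulCommutative A := by
      obtain ⟨A, ⟨hAN, hA, hA0⟩, hmin⟩ := wellFounded_lt.has_min
        {A : Subgroup H | A ≤ N ∧ A.Normal ∧ A ≠ ⊥} ⟨N, le_rfl, hN, hN0⟩
      haveI := hA
      refine ⟨A, hAN, hA, hA0, ?_⟩
      by_cases h : ⁅A, A⁆ = ⊥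
      · exact ⟨⟨fun a b => Subtype.ext (commutatorElement_eq_one_iff_mul_comm.mp
          (Subgroup.mem_bot.mp (h ▸ Subgroup.commutator_mem_commutator a.2 b.2)))⟩⟩
      · exfalso
        have h1 : ⁅A, A⁆ = A := by
          by_contra hne
          exact hmin _ ⟨(Subgroup.commutator_le_left A A).trans hAN, inferInstance, h⟩
            (lt_of_le_of_ne (Subgroup.commutator_le_left A A) hne)
        have h2 : ∀ k, A ≤ derivedSeries H k := by
          intro k
          induction k with
          | zero => exact le_top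
          | succ k ih => rw [derivedSeries_succ, ← h1]; exact Subgroup.commutator_mono ih ih
        obtain ⟨k, hk⟩ := Group.IsSolvable.solvable (G := H)
        exact hA0 (le_bot_iff.mp ((h2 k).trans hk.le))
    haveI := hA
    haveI := hAc
    refine ⟨A, hAN, card_ne_zero ℓ hirr hinj A, ?_⟩
    set e := ∑ g ∈ Finset.univ.filter (· ∈ A), ρ g
    let U : Submodule k W := ⨅ (a : H) (_ : a ∈ A), fixSub (ρ a)
    have hU : ∀ v, v ∈ U ↔ ∀ a ∈ A, ρ a v = v := fun v => by simp [U, Submodule.mem_iInf, mem_fixSub]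
    rcases hirr U (fun g _ u hu => by
      rw [hU] at hu ⊢
      intro a ha
      have h1 := hu (g⁻¹ * a * g) (by
        have := hA.conj_mem a ha g⁻¹
        simpa using this)
      calc ρ a (ρ g u) = ρ g (ρ (g⁻¹ * a * g) u) := by
            rw [← Module.End.mul_apply, ← map_mul, ← Module.End.mul_apply, ← map_mul]; group
        _ = ρ g u := by rw [h1]) with h | h
    · refine LinearMap.ext fun v => (Submodule.eq_bot_iff _).mp h _ ((hU _).mpr fun a ha => ?_)
      have h1 : ρ a * e = e := by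
        rw [Finset.mul_sum]
        refine Finset.sum_bij (fun g _ => a * g) ?_ ?_ ?_ ?_
        · intro g hg
          exact Finset.mem_filter.mpr ⟨Finset.mem_univ _, A.mul_mem ha (Finset.mem_filter.mp hg).2⟩
        · intro g₁ _ g₂ _ h'; exact mul_left_cancel h'
        · intro g hg
          exact ⟨a⁻¹ * g, Finset.mem_filter.mpr ⟨Finset.mem_univ _,
            A.mul_mem (A.inv_mem ha) (Finset.mem_filter.mp hg).2⟩, mul_inv_cancel_left a g⟩
        · intro g _; rw [map_mul]
      rw [← Module.End.mul_apply, h1]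
    · refine absurd ((Subgroup.eq_bot_iff_forall _).mpr fun a ha => hinj ?_) hA0
      rw [map_one]
      exact LinearMap.ext fun v => (hU v).mp (h ▸ Submodule.mem_top) a ha
  have key := bound_of_kills ρK x (fun U _ _ _ σ hk hirrσ hposσ => ?_) (hdim ▸ hpos)
  · omega
  haveI : Nontrivial U := Module.nontrivial_of_finrank_pos hposσ
  refine bound_irred ℓ hirrσ ?_ hp h5 hx hgen hposσ
  rw [← MonoidHom.ker_eq_bot_iff]
  by_contra hker
  obtain ⟨A, hAN, hA0, hA⟩ := hsum σ.ker inferInstance hker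
  have h1 : ∑ g ∈ Finset.univ.filter (· ∈ A), ρK g = 0 := by
    show ∑ g ∈ Finset.univ.filter (· ∈ A), β (ρ g) = 0
    rw [← map_sum, hA, map_zero]
  have h2 := hk.sum_eq_zero h1
  rw [Finset.sum_congr rfl fun g hg => (hAN (Finset.mem_filter.mp hg).2 : σ g = 1), Finset.sum_const,
    ← Nat.cast_smul_eq_nsmul (AlgebraicClosure k), ← Fintype.card_subtype,
    ← Nat.card_eq_fintype_card] at h2
  rcases smul_eq_zero.mp h2 with h | h
  · refine hA0 ((algebraMap k (AlgebraicClosure k)).injective ?_)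
    rw [map_natCast, map_zero]
    exact h
  · exact one_ne_zero h

end Cfsg.Agent.FixedHalf
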