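import Cfsg.Agent.EqLemmas

/-!
# Three translates; fixed points in transitive actions of solvable groups

* `exists_three_translates`: `H' ≤ S ≤ H` normalised by `x` of odd order, `[x, h] ∉ S` for some `h ∈ H`:
  three elements whose quotients are all moved by `x` modulo `S`.
* `three_mul_fixed_le`: in a solvable group generated by the conjugates of `x` of odd order, `x` fixes
  at most a third of the points in every nontrivial transitive action.
-/

set_option autoImplicit false
set_option linter.style.haveILetI false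

open scoped commutatorElement

namespace Cfsg.Agent.FixedHalf

variable {G : Type*} [Group G]

/-- An element of odd order moving `H / S` moves at least two cosets of the set it fixes. -/
theorem exists_three_translates {H S : Subgroup G} (hS : ⁅H, H⁆ ≤ S) (hSH : S ≤ H) {x : G}
    (hxH : ∀ h ∈ H, x * h * x⁻¹ ∈ H) (hxS : ∀ s ∈ S, x * s * x⁻¹ ∈ S)
    {k : ℕ} (hk : x ^ k = 1) (hodd : Odd k) (hne : ∃ h ∈ H, ⁅x, h⁆ ∉ S) :
    ∃ t : Fin 3 → G, (∀ i, t i ∈ H) ∧ ∀ i j, i ≠ j → ⁅x, (t j)⁻¹ * t i⁆ ∉ S := by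
  have hn : ∀ h ∈ H, ∀ s ∈ S, h * s * h⁻¹ ∈ S := fun h hh s hs => by
    rw [show h * s * h⁻¹ = ⁅h, s⁆ * s by simp [commutatorElement_def]]
    exact S.mul_mem (hS (Subgroup.commutator_mem_commutator hh (hSH hs))) hs
  let H0 : Subgroup G :=
    { carrier := {h | h ∈ H ∧ ⁅x, h⁆ ∈ S}
      mul_mem' := fun {a b} ha hb => ⟨H.mul_mem ha.1 hb.1, by
        rw [show ⁅x, a * b⁆ = ⁅x, a⁆ * (a * ⁅x, b⁆ * a⁻¹) by
          simp only [commutatorElement_def]; group]
        exact S.mul_mem ha.2 (hn a ha.1 _ hb.2)⟩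
      one_mem' := ⟨H.one_mem, by rw [commutatorElement_one_right]; exact S.one_mem⟩
      inv_mem' := fun {a} ha => ⟨H.inv_mem ha.1, by
        rw [show ⁅x, a⁻¹⁆ = a⁻¹ * ⁅x, a⁆⁻¹ * a⁻¹⁻¹ by simp only [commutatorElement_def]; group]
        exact hn _ (H.inv_mem ha.1) _ (S.inv_mem ha.2)⟩ }
  obtain ⟨h, hh, hhS⟩ := hne
  have hh0 : h ∉ H0 := fun e => hhS e.2
  -- a third coset
  obtain ⟨h', hh', hh'0, hh''⟩ : ∃ h' ∈ H, h' ∉ H0 ∧ h⁻¹ * h' ∉ H0 := by
    by_contra hcon
    push Not at hcon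
    have hsq : h * h ∈ H0 := by
      by_contra e
      have := hcon (h * h) (H.mul_mem hh hh) e
      rw [← mul_assoc, inv_mul_cancel, one_mul] at this
      exact hh0 this
    have hconjS : ∀ h' ∈ H0, x * h' * x⁻¹ ∈ H0 := fun h' he => ⟨hxH _ he.1, by
      rw [show ⁅x, x * h' * x⁻¹⁆ = x * ⁅x, h'⁆ * x⁻¹ by simp only [commutatorElement_def]; group]
      exact hxS _ he.2⟩
    set c := ⁅x, h⁆ with hc
    have hcH : c ∈ H := by
      rw [hc, commutatorElement_def]
      exact H.mul_mem (hxH h hh) (H.inv_mem hh)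
    have hxh0 : x * h * x⁻¹ ∉ H0 := fun e => hhS (by
      have h1 := hxS _ (S.one_mem)
      -- undo the conjugation with the remaining powers of `x`
      have hpow : ∀ j : ℕ, x ^ j * (x * h * x⁻¹) * (x ^ j)⁻¹ ∈ H0 := by
        intro j
        induction j with
        | zero => simpa using e
        | succ j ih =>
          rw [show x ^ (j + 1) * (x * h * x⁻¹) * (x ^ (j + 1))⁻¹ =
            x * (x ^ j * (x * h * x⁻¹) * (x ^ j)⁻¹) * x⁻¹ by rw [pow_succ']; group]
          exact hconjS _ ih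
      obtain ⟨j, rfl⟩ : ∃ j, k = j + 1 := ⟨k - 1, by rcases hodd with ⟨m, hm⟩; omega⟩
      have h2 := hpow j
      rw [show x ^ j * (x * h * x⁻¹) * (x ^ j)⁻¹ = x ^ (j + 1) * h * (x ^ (j + 1))⁻¹ by
        rw [pow_succ]; group, hk, one_mul, inv_one, mul_one] at h2
      exact absurd h2 hh0)
    have hc0 : c ∈ H0 := by
      have h1 : h⁻¹ * (x * h * x⁻¹) ∈ H0 := hcon _ (hxH h hh) hxh0
      have h2 : h * (h⁻¹ * (x * h * x⁻¹)) * h⁻¹ ∈ H0 := by
        refine ⟨H.mul_mem (H.mul_mem hh h1.1) (H.inv_mem hh), ?_⟩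
        set y := h⁻¹ * (x * h * x⁻¹) with hy
        rw [show ⁅x, h * y * h⁻¹⁆ = c * (h * (⁅x, y⁆ * (y * (h⁻¹ * c⁻¹ * h) * y⁻¹)) * h⁻¹) by
          rw [hc]; simp only [commutatorElement_def]; group]
        have hcomm : h * (⁅x, y⁆ * (y * (h⁻¹ * c⁻¹ * h) * y⁻¹)) * h⁻¹ =
            (h * ⁅x, y⁆ * h⁻¹) * ⁅h * y * h⁻¹, c⁻¹⁆ * c⁻¹ := by
          simp only [commutatorElement_def]; group
        rw [hcomm, ← mul_assoc]
        exact hn c hcH _ (S.mul_mem (hn h hh _ h1.2)
          (hS (Subgroup.commutator_mem_commutator (H.mul_mem (H.mul_mem hh h1.1) (H.inv_mem hh))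
            (H.inv_mem hcH))))
      convert h2 using 1
      rw [hc, commutatorElement_def]; group
    -- `x` shifts `h` by powers of `c` modulo `S`
    have hxc : ∀ j : ℕ, (c ^ j)⁻¹ * (x * c ^ j * x⁻¹) ∈ S := by
      intro j
      induction j with
      | zero => simp
      | succ j ih =>
        have hcj : c ^ j ∈ H := H.pow_mem hcH j
        rw [show (c ^ (j + 1))⁻¹ * (x * c ^ (j + 1) * x⁻¹) =
          c⁻¹ * ((c ^ j)⁻¹ * (x * c ^ j * x⁻¹)) * c⁻¹⁻¹ * (c⁻¹ * ⁅x, c⁆ * c⁻¹⁻¹) by
            simp only [commutatorElement_def, pow_succ]; group]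
        exact S.mul_mem (hn _ (H.inv_mem hcH) _ ih) (hn _ (H.inv_mem hcH) _ hc0.2)
    have hshift : ∀ j : ℕ, (c ^ j * h)⁻¹ * (x ^ j * h * (x ^ j)⁻¹) ∈ S := by
      intro j
      induction j with
      | zero => simp
      | succ j ih =>
        have hcj : c ^ j ∈ H := H.pow_mem hcH j
        rw [show (c ^ (j + 1) * h)⁻¹ * (x ^ (j + 1) * h * (x ^ (j + 1))⁻¹) =
          h⁻¹ * (c⁻¹ * ((c ^ j)⁻¹ * (x * c ^ j * x⁻¹)) * c⁻¹⁻¹) * h⁻¹⁻¹ *
            (x * ((c ^ j * h)⁻¹ * (x ^ j * h * (x ^ j)⁻¹)) * x⁻¹) by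
          rw [hc]; simp only [commutatorElement_def, pow_succ, pow_succ']; group]
        exact S.mul_mem (hn _ (H.inv_mem hh) _ (hn _ (H.inv_mem hcH) _ (hxc j))) (hxS _ ih)
    have hck : c ^ k ∈ S := by
      have h1 := hshift k
      rw [hk, one_mul, inv_one, mul_one] at h1
      have h2 := S.inv_mem (hn h hh _ h1)
      simpa [mul_assoc] using h2
    have hc2 : c * c ∈ S := by
      have h1 := hsq.2
      rw [show ⁅x, h * h⁆ = c * ⁅h, c⁆ * c by rw [hc]; simp only [commutatorElement_def]; group] at h1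
      have h2 : c * ⁅h, c⁆⁻¹ * c⁻¹ * (c * ⁅h, c⁆ * c) ∈ S :=
        S.mul_mem (hn c hcH _ (S.inv_mem (hS (Subgroup.commutator_mem_commutator hh hcH)))) h1
      group at h2 ⊢
      simpa [zpow_two] using h2
    obtain ⟨m, rfl⟩ := hodd
    refine hhS ?_
    have h2 : (c * c) ^ m ∈ S := S.pow_mem hc2 m
    rw [← sq, ← pow_mul] at h2
    rw [pow_succ] at hck
    simpa using S.mul_mem (S.inv_mem h2) hck
  refine ⟨![1, h, h'], fun i => by fin_cases i <;> simp [hh, hh'], fun i j hij hmem => ?_⟩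
  have hmemH : ((![1, h, h'] j)⁻¹ * ![1, h, h'] i) ∈ H0 :=
    ⟨H.mul_mem (H.inv_mem (by fin_cases j <;> simp [hh, hh'])) (by fin_cases i <;> simp [hh, hh']), hmem⟩
  have hinv := H0.inv_mem hmemH
  fin_cases i <;> fin_cases j <;> simp_all

/-- In a solvable group generated by the conjugates of an element `x` of odd order, `x` fixes at
most a third of the cosets of a proper subgroup. -/
theorem three_mul_fixed_coset_le [Finite G] [Group.IsSolvable G] {x : G}
    (hgen : Subgroup.normalClosure ({x} : Set G) = ⊤) (hodd : Odd (orderOf x)) :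
    ∀ (n : ℕ) (H : Subgroup G), H.index = n → H ≠ ⊤ →
      3 * Nat.card {y : G ⧸ H // x • y = y} ≤ n := by
  classical
  intro n
  induction n using Nat.strong_induction_on with
  | _ n ih =>
  intro H hn hH
  by_cases hfix : ∃ y : G ⧸ H, x • y = y
  swap
  · haveI : IsEmpty {y : G ⧸ H // x • y = y} := ⟨fun y => hfix ⟨y.1, y.2⟩⟩
    simp
  -- the last term of the derived series outside `H`
  obtain ⟨m, hm⟩ := Group.IsSolvable.solvable (G := G)
  have hex : ∃ j, derivedSeries G j ≤ H := ⟨m, by rw [hm]; exact bot_le⟩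
  obtain ⟨j, hj⟩ : ∃ j, Nat.find hex = j + 1 :=
    Nat.exists_eq_succ_of_ne_zero fun h0 => hH (top_le_iff.mp (by
      have := Nat.find_spec hex
      rwa [h0, derivedSeries_zero] at this))
  set M := derivedSeries G j
  have hMn : M.Normal := derivedSeries_normal G j
  have hMH : ¬ M ≤ H := Nat.find_min hex (by omega)
  have hMM : ⁅M, M⁆ ≤ H := by
    have := Nat.find_spec hex
    rwa [hj, derivedSeries_succ] at this
  set T := H ⊔ M
  by_cases hT : T = ⊤
  swap
  · -- pass to the blocks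
    have hle : H ≤ T := le_sup_left
    have hlt : T.index < n := by
      rw [← hn]
      exact Subgroup.index_strictAnti (lt_of_le_of_ne hle fun e => hMH (le_sup_right.trans e.ge))
    have h1 := ih _ hlt T rfl hT
    let f : {y : G ⧸ H // x • y = y} → {y : G ⧸ T // x • y = y} × (T ⧸ H.subgroupOf T) := fun y =>
      (⟨(Subgroup.quotientEquivProdOfLE hle y.1).1, by
        obtain ⟨⟨g⟩, hy⟩ := y
        show x • (QuotientGroup.mk g : G ⧸ T) = QuotientGroup.mk g
        have h2 : ((x * g : G) : G ⧸ H) = g := hy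
        exact (QuotientGroup.eq.mpr (hle (QuotientGroup.eq.mp h2)) : ((x * g : G) : G ⧸ T) = g)⟩,
        (Subgroup.quotientEquivProdOfLE hle y.1).2)
    have hf : Function.Injective f := fun a b hab =>
      Subtype.ext ((Subgroup.quotientEquivProdOfLE hle).injective
        (Prod.ext (congrArg (fun z : {y : G ⧸ T // x • y = y} × (T ⧸ H.subgroupOf T) => z.1.1) hab)
          (congrArg (fun z : {y : G ⧸ T // x • y = y} × (T ⧸ H.subgroupOf T) => z.2) hab)))
    have h2 := Nat.card_le_card_of_injective f hf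
    rw [Nat.card_prod] at h2
    calc 3 * Nat.card {y : G ⧸ H // x • y = y}
        ≤ 3 * Nat.card {y : G ⧸ T // x • y = y} * Nat.card (T ⧸ H.subgroupOf T) := by
          rw [mul_assoc]; exact Nat.mul_le_mul le_rfl h2
      _ ≤ T.index * Nat.card (T ⧸ H.subgroupOf T) := Nat.mul_le_mul h1 le_rfl
      _ = n := by
          rw [← hn, mul_comm, show Nat.card (T ⧸ H.subgroupOf T) = H.relIndex T from rfl]
          exact Subgroup.relIndex_mul_index hle
  · set S := M ⊓ H with hS
    have hSn : S.Normal := by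
      refine Subgroup.normalizer_eq_top_iff.mp (top_le_iff.mp (hT ▸ sup_le ?_ ?_))
      · intro g hg
        refine Subgroup.mem_normalizer_iff.mpr fun s => ⟨fun hs => ⟨hMn.conj_mem s hs.1 g,
          H.mul_mem (H.mul_mem hg hs.2) (H.inv_mem hg)⟩, fun hs => ?_⟩
        have h1 := hMn.conj_mem _ hs.1 g⁻¹
        have h2 := H.mul_mem (H.mul_mem (H.inv_mem hg) hs.2) hg
        exact ⟨by simpa [mul_assoc] using h1, by simpa [mul_assoc] using h2⟩
      · intro g hg
        have key : ∀ g ∈ M, ∀ s ∈ S, g * s * g⁻¹ ∈ S := fun g hg s hs => ⟨hMn.conj_mem s hs.1 g, by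
          rw [show g * s * g⁻¹ = ⁅g, s⁆ * s by simp [commutatorElement_def]]
          exact H.mul_mem (hMM (Subgroup.commutator_mem_commutator hg hs.1)) hs.2⟩
        refine Subgroup.mem_normalizer_iff.mpr fun s => ⟨key g hg s, fun hs => ?_⟩
        simpa [mul_assoc] using key g⁻¹ (M.inv_mem hg) _ hs
    have hMMS : ⁅M, M⁆ ≤ S := le_inf (Subgroup.commutator_le_self M) hMM
    -- elements of `S` fix everything
    have hSfix : ∀ s ∈ S, ∀ y : G ⧸ H, s • y = y := fun s hs y => by
      obtain ⟨g, rfl⟩ := QuotientGroup.mk_surjective y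
      refine QuotientGroup.eq.mpr ?_
      have := S.inv_mem (hSn.conj_mem s hs g⁻¹)
      simpa [mul_assoc] using this.2
    have hcover : ∀ y y' : G ⧸ H, ∃ u ∈ M, u • y = y' := by
      intro y y'
      obtain ⟨g, rfl⟩ := QuotientGroup.mk_surjective y
      obtain ⟨g', rfl⟩ := QuotientGroup.mk_surjective y'
      have h1 : g' * g⁻¹ ∈ M ⊔ H := by rw [sup_comm, show H ⊔ M = T from rfl, hT]; trivial
      obtain ⟨u, hu, h, hh, huh⟩ := Subgroup.mem_sup_of_normal_left.mp h1
      have h3 : h ∈ M ⊔ H := Subgroup.mem_sup_right hh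
      have hg : g ∈ M ⊔ H := by rw [sup_comm, show H ⊔ M = T from rfl, hT]; trivial
      obtain ⟨v, hv, k, hk, rfl⟩ := Subgroup.mem_sup_of_normal_left.mp hg
      refine ⟨u * (h * v * h⁻¹) * v⁻¹, M.mul_mem (M.mul_mem hu (hMn.conj_mem v hv h)) (M.inv_mem hv),
        QuotientGroup.eq.mpr ?_⟩
      have hg' : g' = u * h * (v * k) := by rw [huh]; group
      rw [hg']
      have := H.mul_mem (H.mul_mem (H.inv_mem hk) (H.mul_mem hh hk)) H.one_mem
      have h4 : (u * (h * v * h⁻¹) * v⁻¹ * (v * k))⁻¹ * (u * h * (v * k)) = k⁻¹ * (h * k) * 1 := by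
        group
      simp only [smul_eq_mul]
      rw [h4]; exact this
    obtain ⟨y₀, hy₀⟩ := hfix
    have hne : ∃ u ∈ M, ⁅x, u⁆ ∉ S := by
      by_contra hcon
      push Not at hcon
      refine hH (top_le_iff.mp (hgen ▸ ?_))
      rw [Subgroup.normalClosure, Subgroup.closure_le]
      intro z hz
      obtain ⟨w, hw, hwz⟩ := Group.mem_conjugatesOfSet_iff.mp hz
      rw [Set.mem_singleton_iff] at hw
      subst hw
      obtain ⟨g, rfl⟩ := isConj_iff.mp hwz
      obtain ⟨u, hu, huy⟩ := hcover y₀ ((g⁻¹ : G) : G ⧸ H)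
      have h1 : w • ((g⁻¹ : G) : G ⧸ H) = ((g⁻¹ : G) : G ⧸ H) := by
        rw [← huy, ← mul_smul, show w * u = ⁅w, u⁆ * (u * w) by simp [commutatorElement_def],
          mul_smul, mul_smul, hy₀, hSfix _ (hcon u hu)]
      have h2 : (w * g⁻¹)⁻¹ * g⁻¹ ∈ H := QuotientGroup.eq.mp h1
      simpa [mul_assoc] using H.inv_mem h2
    obtain ⟨t, htM, ht⟩ := exists_three_translates hMMS inf_le_left (fun h hh => hMn.conj_mem h hh x)
      (fun s hs => hSn.conj_mem s hs x) (pow_orderOf_eq_one x) hodd hne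
    let f : Fin 3 × {y : G ⧸ H // x • y = y} → G ⧸ H := fun z => t z.1 • z.2.1
    have hf : Function.Injective f := by
      rintro ⟨i, y, hy⟩ ⟨i', y', hy'⟩ heq
      have hu : ((t i')⁻¹ * t i) • y = y' := by
        rw [mul_smul, show t i • y = t i' • y' from heq, inv_smul_smul]
      by_cases hii : i = i'
      · subst hii
        simp only [inv_mul_cancel, one_smul] at hu
        subst hu; rfl
      · refine absurd ?_ (ht i i' hii)
        set u := (t i')⁻¹ * t i
        have huM : u ∈ M := M.mul_mem (M.inv_mem (htM i')) (htM i)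
        have hcM : ⁅x, u⁆ ∈ M := by
          rw [commutatorElement_def]; exact M.mul_mem (hMn.conj_mem u huM x) (M.inv_mem huM)
        have hxy : ⁅x, u⁆ • y' = y' := by
          have hxi : x⁻¹ • y = y := inv_smul_eq_iff.mpr hy.symm
          rw [commutatorElement_def, mul_smul, show u⁻¹ • y' = y by rw [← hu, inv_smul_smul],
            mul_smul, hxi, mul_smul, hu, hy']
        obtain ⟨g, rfl⟩ := QuotientGroup.mk_surjective y'
        have h1 : (⁅x, u⁆ * g)⁻¹ * g ∈ H := QuotientGroup.eq.mp hxy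
        have h2 : g⁻¹ * ⁅x, u⁆⁻¹ * g⁻¹⁻¹ ∈ S := ⟨hMn.conj_mem _ (M.inv_mem hcM) _, by
          simpa [mul_assoc] using h1⟩
        simpa [mul_assoc] using S.inv_mem (hSn.conj_mem _ h2 g)
    have h2 := Nat.card_le_card_of_injective f hf
    rw [Nat.card_prod, Nat.card_fin] at h2
    rw [← hn]
    exact h2

/-- `x` fixes at most a third of the points of a nontrivial transitive action. -/
theorem three_mul_fixed_le [Finite G] [Group.IsSolvable G] {x : G}
    (hgen : Subgroup.normalClosure ({x} : Set G) = ⊤) (hodd : Odd (orderOf x))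
    {X : Type*} [MulAction G X] [MulAction.IsPretransitive G X] [Finite X] [Nontrivial X] :
    3 * Nat.card {y : X // x • y = y} ≤ Nat.card X := by
  obtain ⟨a, b, hab⟩ := exists_pair_ne X
  set H := MulAction.stabilizer G a
  have hidx : H.index = Nat.card X := MulAction.index_stabilizer_of_transitive G a
  have hH : H ≠ ⊤ := fun h => hab (by
    obtain ⟨g, hg⟩ := MulAction.exists_smul_eq G a b
    rw [← hg]
    exact (MulAction.mem_stabilizer_iff.mp (h ▸ Subgroup.mem_top g : g ∈ H)).symm)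
  let F : G ⧸ H → X := MulAction.ofQuotientStabilizer G a
  have hFs : Function.Surjective F := fun y => by
    obtain ⟨g, hg⟩ := MulAction.exists_smul_eq G a y
    exact ⟨g, hg⟩
  have hFi : Function.Injective F := MulAction.injective_ofQuotientStabilizer G a
  have he : Nat.card {y : X // x • y = y} ≤ Nat.card {y : G ⧸ H // x • y = y} := by
    choose F' hF' using hFs
    refine Nat.card_le_card_of_injective (fun y => ⟨F' y.1, hFi ?_⟩) fun y z hyz => Subtype.ext ?_
    · show MulAction.ofQuotientStabilizer G a (x • F' y.1) = _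
      rw [MulAction.ofQuotientStabilizer_smul, show MulAction.ofQuotientStabilizer G a (F' y.1) = y.1
        from hF' y.1, y.2]
      exact (hF' y.1).symm
    · rw [← hF' y.1, ← hF' z.1, show F' y.1 = F' z.1 from congrArg Subtype.val hyz]
  have := three_mul_fixed_coset_le hgen hodd _ H rfl hH
  rw [hidx] at this
  omega

end Cfsg.Agent.FixedHalf
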