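import Cfsg.Agent.Lib.FixedHalf.Main
import Cfsg.Agent.Lib.HallHigman.FrattiniModule
import Cfsg.Agent.Lib.Cores.Frattini
import Cfsg.Agent.Lib.Solvable.Basic

/-!
# Extending a soluble two-conjugate-generated subgroup

`A = ⟨x, axa⁻¹⟩` soluble, `x` of prime order `p ≥ 5`, acting on an `r`-group `U` with a normal `q`-subgroup
`Q` (`q ≠ r`) that centralises every proper invariant subgroup but not `U`: then `A U` is generated by two
conjugates of `x` (`exists_gen`).
-/

set_option autoImplicit false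
set_option linter.style.haveILetI false
set_option linter.unusedSectionVars false
set_option maxHeartbeats 1000000

open Module
open scoped commutatorElement Pointwise

namespace Cfsg.Agent.FixedHalf

variable {G : Type*} [Group G] [Finite G] {A U Q : Subgroup G} {p q r : ℕ} {x a : G}

/-- A vector outside `C(x) C(axa⁻¹)`. -/
theorem exists_not_mem_fixed [U.Normal] [IsMulCommutative U] [Fact r.Prime]
    (hexp : ∀ u ∈ U, u ^ r = 1) (hsol : Group.IsSolvable A) (hp : p.Prime) (h5 : 5 ≤ p)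
    (hx : x ^ p = 1) (haA : a ∈ A) (hA : A = Subgroup.closure {x, a * x * a⁻¹})
    (hxU : ¬ ∀ u ∈ U, Commute x u)
    (hirr : ∀ W ≤ U, A ≤ Subgroup.normalizer (W : Set G) → W = ⊥ ∨ W = U) :
    ∃ u ∈ U, ∀ c₁ ∈ U, ∀ c₂ ∈ U, Commute x c₁ → Commute (a * x * a⁻¹) c₂ → u ≠ c₁ * c₂ := by
  classical
  haveI := hsol
  have hxA : x ∈ A := hA ▸ Subgroup.subset_closure (Or.inl rfl)
  letI : CommGroup U := { (inferInstance : Group U) with mul_comm := fun u v => mul_comm' u v }
  obtain ⟨instM, σ, hσ⟩ := HallHigman.exists_linear_rep (p := r) (Q := U)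
    (fun u => Subtype.ext (by simpa using hexp u u.2)) ((MulAut.conjNormal (H := U)).comp A.subtype)
  letI := instM
  set V := Additive U
  haveI : Finite V := inferInstanceAs (Finite U)
  haveI : FiniteDimensional (ZMod r) V := Module.Finite.of_finite
  have hval : ∀ (g : A) (v : V), ((Additive.toMul (σ g v) : U) : G) =
      g * (Additive.toMul v : U) * (g : G)⁻¹ := fun g v => by
    rw [show v = Additive.ofMul (Additive.toMul v) from rfl, hσ]
    rfl
  have hfix : ∀ (g : A) (v : V), σ g v = v ↔ Commute (g : G) (Additive.toMul v : U) := by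
    intro g v
    rw [commute_iff_eq]
    constructor
    · intro h
      have h1 := hval g v
      rw [h] at h1
      exact (eq_mul_inv_iff_mul_eq.mp h1).symm
    · intro h
      apply Additive.toMul.injective
      apply Subtype.ext
      rw [hval, h, mul_inv_cancel_right]
  let ρ : A ⧸ σ.ker →* Module.End (ZMod r) V := QuotientGroup.lift σ.ker σ fun g hg => hg
  have hρ : ∀ g : A, ρ (QuotientGroup.mk g) = σ g := fun g => rfl
  have hinj : Function.Injective ρ := by
    rw [← MonoidHom.ker_eq_bot_iff, Subgroup.eq_bot_iff_forall]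
    intro g hg
    induction g using QuotientGroup.induction_on with | _ g => ?_
    exact (QuotientGroup.eq_one_iff g).mpr (MonoidHom.mem_ker.mpr ((hρ g).symm.trans (MonoidHom.mem_ker.mp hg)))
  have hirr' : HallHigman.IsIrred ρ ⊤ := by
    intro S hS
    let W : Subgroup G := Subgroup.map U.subtype
      { carrier := {u : U | Additive.ofMul u ∈ S}
        one_mem' := S.zero_mem
        mul_mem' := fun h h' => S.add_mem h h'
        inv_mem' := fun h => S.neg_mem h }
    have hW : ∀ v : V, ((Additive.toMul v : U) : G) ∈ W ↔ v ∈ S := fun v =>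
      ⟨fun ⟨u, hu, he⟩ => by obtain rfl : u = Additive.toMul v := Subtype.ext he; exact hu,
        fun h => ⟨_, h, rfl⟩⟩
    have hWA : A ≤ Subgroup.normalizer (W : Set G) := fun g hg => by
      refine Subgroup.mem_normalizer_fintype ?_
      rintro _ ⟨u, hu, rfl⟩
      rw [SetLike.mem_coe, show g * U.subtype u * g⁻¹ =
        ((Additive.toMul (σ ⟨g, hg⟩ (Additive.ofMul u)) : U) : G) from (hval ⟨g, hg⟩ (Additive.ofMul u)).symm, hW]
      exact hS (QuotientGroup.mk ⟨g, hg⟩) (Subgroup.mem_top _) _ hu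
    rcases hirr W (Subgroup.map_subtype_le _) hWA with h | h
    · refine Or.inl ((Submodule.eq_bot_iff _).mpr fun v hv => ?_)
      have h1 := (Subgroup.eq_bot_iff_forall _).mp h _ ((hW v).mpr hv)
      exact Additive.toMul.injective (Subtype.ext h1)
    · exact Or.inr (Submodule.eq_top_iff'.mpr fun v => (hW v).mp (h.symm ▸ (Additive.toMul v : U).2))
  have hpos : 0 < finrank (ZMod r) V := by
    rw [Module.finrank_pos_iff]
    by_contra hs
    rw [not_nontrivial_iff_subsingleton] at hs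
    refine hxU fun u hu => ?_
    have h1 : (⟨u, hu⟩ : U) = 1 := Additive.ofMul.injective (Subsingleton.elim _ _)
    rw [show u = 1 from congrArg Subtype.val h1]
    exact Commute.one_right x
  set x' : A ⧸ σ.ker := QuotientGroup.mk ⟨x, hxA⟩
  set a' : A ⧸ σ.ker := QuotientGroup.mk ⟨a, haA⟩
  have hx' : orderOf x' = p := by
    haveI := Fact.mk hp
    refine orderOf_eq_prime ?_ ?_
    · rw [← QuotientGroup.mk_pow, show (⟨x, hxA⟩ : A) ^ p = 1 from Subtype.ext (by simpa using hx),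
        QuotientGroup.mk_one]
    · intro h
      refine hxU fun u hu => (hfix ⟨x, hxA⟩ (Additive.ofMul ⟨u, hu⟩)).mp ?_
      rw [← hρ, show (QuotientGroup.mk (⟨x, hxA⟩ : A) : A ⧸ σ.ker) = 1 from h, map_one,
        Module.End.one_apply]
  have hgen : Subgroup.normalClosure ({x'} : Set (A ⧸ σ.ker)) = ⊤ := by
    rw [eq_top_iff]
    intro g _
    induction g using QuotientGroup.induction_on with | _ g => ?_
    have hle : A ≤ ((Subgroup.normalClosure ({x'} : Set (A ⧸ σ.ker))).comap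
        (QuotientGroup.mk' σ.ker)).map A.subtype := by
      conv_lhs => rw [hA]
      rw [Subgroup.closure_le]
      rintro g (rfl | rfl)
      · exact ⟨⟨g, hxA⟩, Subgroup.subset_normalClosure rfl, rfl⟩
      · refine ⟨⟨a, haA⟩ * ⟨x, hxA⟩ * ⟨a, haA⟩⁻¹, ?_, rfl⟩
        rw [SetLike.mem_coe, Subgroup.mem_comap, map_mul, map_mul, map_inv]
        exact Subgroup.normalClosure_normal.conj_mem x'
          (Subgroup.subset_normalClosure (Set.mem_singleton x')) a'
    obtain ⟨g', hg', he⟩ := hle g.2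
    rw [← Subtype.ext he]
    exact hg'
  have key := two_mul_finrank_fixSub_lt_of_solvable r ρ hirr' hinj hp h5 hx' hgen hpos
  set C₁ := fixSub (ρ x')
  set C₂ := C₁.map (ρ a')
  have hC₂ : finrank (ZMod r) C₂ ≤ finrank (ZMod r) C₁ := Submodule.finrank_map_le (ρ a') C₁
  have hne : C₁ ⊔ C₂ ≠ ⊤ := fun h => by
    have h1 := Submodule.finrank_sup_add_finrank_inf_eq C₁ C₂
    rw [h, finrank_top] at h1
    omega
  obtain ⟨v, -, hv⟩ := SetLike.exists_of_lt hne.lt_top
  refine ⟨(Additive.toMul v : U), (Additive.toMul v : U).2, fun c₁ hc₁ c₂ hc₂ h₁ h₂ he => hv ?_⟩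
  have hv' : v = Additive.ofMul (⟨c₁, hc₁⟩ : U) + Additive.ofMul (⟨c₂, hc₂⟩ : U) :=
    Additive.toMul.injective (Subtype.ext he)
  rw [hv']
  refine Submodule.add_mem_sup ?_ ⟨σ ⟨a, haA⟩⁻¹ (Additive.ofMul (⟨c₂, hc₂⟩ : U)), ?_, ?_⟩
  · rw [mem_fixSub, hρ]
    exact (hfix ⟨x, hxA⟩ _).mpr h₁
  · rw [SetLike.mem_coe, mem_fixSub, hρ, hfix, hval]
    have h3 : Commute (a⁻¹ * (a * x * a⁻¹) * a) (a⁻¹ * c₂ * a) := by
      have := h₂.map (MulAut.conj a⁻¹).toMonoidHom
      simpa using this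
    have e : a⁻¹ * (a * x * a⁻¹) * a = x := by group
    rw [e] at h3
    simpa using h3
  · rw [hρ, ← Module.End.mul_apply, ← map_mul, mul_inv_cancel, map_one, Module.End.one_apply]

/-- A two-generated supplement of `U` is everything. -/
theorem closure_eq_top [U.Normal] [IsMulCommutative U] (hAU : A ⊔ U = ⊤) (hdis : A ⊓ U = ⊥)
    [Fact q.Prime] [Fact r.Prime] (hqr : q ≠ r) (hU : IsPGroup r U) (hQA : Q ≤ A)
    (hQq : IsPGroup q Q) (hQn : A ≤ Subgroup.normalizer (Q : Set G))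
    (hCQ : ∀ u ∈ U, (∀ t ∈ Q, Commute u t) → u = 1)
    (hxA : x ∈ A) (haA : a ∈ A) (hA : A = Subgroup.closure {x, a * x * a⁻¹})
    (hirr : ∀ W ≤ U, A ≤ Subgroup.normalizer (W : Set G) → W = ⊥ ∨ W = U)
    {u : G} (hu : u ∈ U)
    (hnf : ∀ c₁ ∈ U, ∀ c₂ ∈ U, Commute x c₁ → Commute (a * x * a⁻¹) c₂ → u ≠ c₁ * c₂) :
    Subgroup.closure {x, u * (a * x * a⁻¹) * u⁻¹} = ⊤ := by
  set y := a * x * a⁻¹
  set B := Subgroup.closure {x, u * y * u⁻¹}
  have hxB : x ∈ B := Subgroup.subset_closure (Or.inl rfl)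
  have hyB : u * y * u⁻¹ ∈ B := Subgroup.subset_closure (Or.inr rfl)
  have hBU : B ⊔ U = ⊤ := by
    rw [eq_top_iff, ← hAU]
    refine sup_le ?_ le_sup_right
    rw [hA, Subgroup.closure_le]
    rintro g (rfl | rfl)
    · exact Subgroup.mem_sup_left hxB
    · have h1 : u⁻¹ * (u * y * u⁻¹) * u ∈ B ⊔ U := mul_mem (mul_mem
        (Subgroup.mem_sup_right (U.inv_mem hu)) (Subgroup.mem_sup_left hyB)) (Subgroup.mem_sup_right hu)
      simpa [mul_assoc] using h1
  have hWn : Subgroup.normalizer ((B ⊓ U : Subgroup G) : Set G) = ⊤ := by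
    rw [eq_top_iff, ← hBU]
    refine sup_le (fun b hb => Subgroup.mem_normalizer_fintype fun w hw => ?_)
      (fun b hb => Subgroup.mem_normalizer_fintype fun w hw => ?_)
    · exact ⟨B.mul_mem (B.mul_mem hb hw.1) (B.inv_mem hb),
        Subgroup.Normal.conj_mem inferInstance w hw.2 b⟩
    · rw [show b * w * b⁻¹ = w by
        rw [show b * w = w * b from congrArg Subtype.val (mul_comm' (⟨b, hb⟩ : U) ⟨w, hw.2⟩),
          mul_inv_cancel_right]]
      exact hw
  rcases hirr (B ⊓ U) inf_le_right (hWn ▸ le_top) with h0 | h0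
  swap
  · rw [← hBU, eq_comm, sup_eq_left, ← h0]; exact inf_le_left
  exfalso
  set L := Q ⊔ U
  set T := B ⊓ L
  have hTU : T ⊔ U = L := by
    refine le_antisymm (sup_le inf_le_right le_sup_right) fun l hl => ?_
    have hl' : l ∈ B ⊔ U := hBU ▸ Subgroup.mem_top l
    obtain ⟨b, hb, w, hw, rfl⟩ := Subgroup.mem_sup_of_normal_right.mp hl'
    refine Subgroup.mul_mem_sup ⟨hb, ?_⟩ hw
    simpa using L.mul_mem hl (L.inv_mem (Subgroup.mem_sup_right hw : w ∈ L))
  have hQU : Q ⊓ U = ⊥ := le_bot_iff.mp (hdis ▸ inf_le_inf_right U hQA)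
  have hTU0 : T ⊓ U = ⊥ := le_bot_iff.mp (h0 ▸ inf_le_inf_right U inf_le_left)
  have hcardT : Nat.card T = Nat.card Q := by
    have h1 := Solvable.card_sup_of_disjoint T U hTU0
    have h2 := Solvable.card_sup_of_disjoint Q U hQU
    rw [hTU] at h1
    exact Nat.eq_of_mul_eq_mul_right Nat.card_pos (h1.symm.trans h2)
  obtain ⟨e, he⟩ := IsPGroup.iff_card.mp hQq
  have hfac : (Nat.card L).factorization q = e := by
    obtain ⟨f, hf⟩ := IsPGroup.iff_card.mp hU
    rw [show Nat.card L = Nat.card Q * Nat.card U from Solvable.card_sup_of_disjoint Q U hQU, he, hf,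
      Nat.factorization_mul (pow_ne_zero _ (Fact.out : q.Prime).ne_zero)
        (pow_ne_zero _ (Fact.out : r.Prime).ne_zero), Finsupp.add_apply,
      (Fact.out : q.Prime).factorization_pow, (Fact.out : r.Prime).factorization_pow,
      Finsupp.single_eq_same, Finsupp.single_eq_of_ne hqr, add_zero]
  let P₁ : Sylow q L := Sylow.ofCard (Q.subgroupOf L) (by
    rw [Nat.card_congr (Subgroup.subgroupOfEquivOfLe (le_sup_left : Q ≤ L)).toEquiv, hfac, he])
  let P₂ : Sylow q L := Sylow.ofCard (T.subgroupOf L) (by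
    rw [Nat.card_congr (Subgroup.subgroupOfEquivOfLe (inf_le_right : T ≤ L)).toEquiv, hfac, hcardT, he])
  obtain ⟨⟨g, hg⟩, hg'⟩ := MulAction.exists_smul_eq L P₁ P₂
  have hgL : g ∈ U ⊔ Q := by rwa [sup_comm]
  obtain ⟨w, hw, t₀, ht₀, rfl⟩ := Subgroup.mem_sup_of_normal_left.mp hgL
  have hwQ : ∀ t ∈ Q, w * t * w⁻¹ ∈ T := by
    intro t ht
    have ht' : t₀⁻¹ * t * t₀ ∈ Q := Q.mul_mem (Q.mul_mem (Q.inv_mem ht₀) ht) ht₀
    have hmem : (⟨w * t * w⁻¹, L.mul_mem (L.mul_mem (Subgroup.mem_sup_right hw)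
        (Subgroup.mem_sup_left ht)) (L.inv_mem (Subgroup.mem_sup_right hw))⟩ : L) ∈
        (P₂ : Subgroup L) := by
      rw [← hg', Sylow.coe_subgroup_smul, Subgroup.mem_pointwise_smul_iff_inv_smul_mem]
      show (_ : L) ∈ Q.subgroupOf L
      rw [Subgroup.mem_subgroupOf]
      show (w * t₀)⁻¹ * (w * t * w⁻¹) * (w * t₀) ∈ Q
      rw [show (w * t₀)⁻¹ * (w * t * w⁻¹) * (w * t₀) = t₀⁻¹ * t * t₀ by group]
      exact ht'
    exact hmem
  have hwT : ∀ s ∈ T, w⁻¹ * s * w ∈ Q := by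
    intro s hs
    have heq : Q.map (MulAut.conj w).toMonoidHom = T := Subgroup.eq_of_le_of_card_ge
      (by rintro _ ⟨t, ht, rfl⟩; exact hwQ t ht)
      (by rw [Nat.card_congr (Q.equivMapOfInjective _ (MulAut.conj w).injective).toEquiv.symm, hcardT])
    obtain ⟨t, ht, rfl⟩ := heq.ge hs
    simpa [mul_assoc] using ht
  have hN : ∀ c ∈ Subgroup.normalizer (Q : Set G), c ∈ A := by
    intro c hc
    have hc' : c ∈ A ⊔ U := hAU ▸ Subgroup.mem_top c
    obtain ⟨α, hα, v, hv, rfl⟩ := Subgroup.mem_sup_of_normal_right.mp hc'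
    have hvN : v ∈ Subgroup.normalizer (Q : Set G) := by
      simpa using Subgroup.mul_mem _ (Subgroup.inv_mem _ (hQn hα)) hc
    rw [hCQ v hv fun t ht => ?_, mul_one]
    · exact hα
    · have h1 : ⁅v, t⁆ ∈ Q ⊓ U := ⟨Q.mul_mem ((Subgroup.mem_normalizer_iff.mp hvN t).mp ht) (Q.inv_mem ht), by
        rw [show ⁅v, t⁆ = v * (t * v⁻¹ * t⁻¹) by simp [commutatorElement_def, mul_assoc]]
        exact U.mul_mem hv (Subgroup.Normal.conj_mem inferInstance _ (U.inv_mem hv) t)⟩
      rw [hQU, Subgroup.mem_bot] at h1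
      exact commutatorElement_eq_one_iff_commute.mp h1
  have hBA : ∀ b ∈ B, w⁻¹ * b * w ∈ A := by
    intro b hb
    refine hN _ (Subgroup.mem_normalizer_fintype fun t ht => ?_)
    have hbL : b ∈ Subgroup.normalizer (L : Set G) := by
      rw [Subgroup.normalizer_eq_top_iff.mpr ?_]
      · exact Subgroup.mem_top b
      refine Subgroup.normalizer_eq_top_iff.mp ?_
      rw [eq_top_iff, ← hAU]
      refine sup_le (fun g hg => Subgroup.mem_normalizer_fintype fun l hl => ?_)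
        ((le_sup_right : U ≤ L).trans Subgroup.le_normalizer)
      obtain ⟨t, ht, v, hv, rfl⟩ := Subgroup.mem_sup_of_normal_right.mp hl
      rw [show g * (t * v) * g⁻¹ = (g * t * g⁻¹) * (g * v * g⁻¹) by group]
      exact Subgroup.mul_mem_sup ((Subgroup.mem_normalizer_iff.mp (hQn hg) t).mp ht)
        (Subgroup.Normal.conj_mem inferInstance v hv g)
    have h1 : b * (w * t * w⁻¹) * b⁻¹ ∈ T := ⟨B.mul_mem (B.mul_mem hb (hwQ t ht).1) (B.inv_mem hb),
      (Subgroup.mem_normalizer_iff.mp hbL _).mp (hwQ t ht).2⟩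
    have h2 := hwT _ h1
    rwa [show w⁻¹ * (b * (w * t * w⁻¹) * b⁻¹) * w =
      w⁻¹ * b * w * t * (w⁻¹ * b * w)⁻¹ by group] at h2
  have hcomm : ∀ g ∈ A, ∀ v ∈ U, v * g * v⁻¹ ∈ A → Commute g v := by
    intro g hg v hv h
    have h1 : v * g * v⁻¹ * g⁻¹ ∈ A ⊓ U := ⟨A.mul_mem h (A.inv_mem hg), by
      rw [show v * g * v⁻¹ * g⁻¹ = v * (g * v⁻¹ * g⁻¹) by group]
      exact U.mul_mem hv (Subgroup.Normal.conj_mem inferInstance _ (U.inv_mem hv) g)⟩
    rw [hdis, Subgroup.mem_bot] at h1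
    exact (commutatorElement_eq_one_iff_commute.mp h1).symm
  have hyA : y ∈ A := A.mul_mem (A.mul_mem haA hxA) (A.inv_mem haA)
  have hx1 := hcomm x hxA w⁻¹ (U.inv_mem hw) (by simpa using hBA x hxB)
  have hy1 := hcomm y hyA (w⁻¹ * u) (U.mul_mem (U.inv_mem hw) hu)
    (by simpa [mul_assoc] using hBA _ hyB)
  exact hnf w hw (w⁻¹ * u) (U.mul_mem (U.inv_mem hw) hu) (by simpa using hx1.inv_right) hy1
    (by group)

/-- Elements of coprime orders lie in the subgroup generated by their product. -/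
theorem mem_of_mul_mem {B : Subgroup G} {t m : G} (htm : Commute t m) {k l : ℕ} (hk : t ^ k = 1)
    (hl : m ^ l = 1) (hkl : k.Coprime l) (h : t * m ∈ B) : t ∈ B := by
  rcases Nat.eq_zero_or_pos k with rfl | hk0
  · rw [Nat.coprime_zero_left] at hkl
    subst hkl
    rw [pow_one] at hl
    simpa [hl] using h
  rcases eq_or_ne k 1 with rfl | hk1
  · rw [pow_one] at hk; exact hk ▸ B.one_mem
  obtain ⟨j, hj⟩ := Nat.exists_mul_mod_eq_one_of_coprime hkl.symm (by omega)
  have h1 : (t * m) ^ (l * j) = t := by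
    rw [htm.mul_pow, pow_mul m, hl, one_pow, mul_one, pow_eq_pow_mod _ hk, hj.2, pow_one]
  exact h1 ▸ B.pow_mem h _

/-- The extension: `A U` is generated by two conjugates of `x`. -/
theorem exists_gen [U.Normal] (hAU : A ⊔ U = ⊤) (hsol : Group.IsSolvable A) [Fact q.Prime] [Fact r.Prime]
    (hqr : q ≠ r) (hU : IsPGroup r U) (hUA : ¬ U ≤ A) (hQA : Q ≤ A) (hQq : IsPGroup q Q)
    (hQn : A ≤ Subgroup.normalizer (Q : Set G)) (hp : p.Prime) (h5 : 5 ≤ p) (hx : x ^ p = 1)
    (haA : a ∈ A) (hA : A = Subgroup.closure {x, a * x * a⁻¹})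
    (hprop : ∀ W < U, A ≤ Subgroup.normalizer (W : Set G) → ∀ u ∈ W, ∀ t ∈ Q, Commute u t)
    (hne : ¬ ∀ u ∈ U, ∀ t ∈ Q, Commute u t) :
    ∃ b : G, Subgroup.closure {x, b * x * b⁻¹} = ⊤ := by
  classical
  have hxA : x ∈ A := hA ▸ Subgroup.subset_closure (Or.inl rfl)
  haveI : Group.IsNilpotent U := hU.isNilpotent
  obtain ⟨k, hk⟩ := IsPGroup.iff_card.mp hQq
  obtain ⟨l, hl⟩ := IsPGroup.iff_card.mp hU
  have hco : (q ^ k).Coprime (r ^ l) :=
    ((Nat.coprime_primes (Fact.out : q.Prime) (Fact.out : r.Prime)).mpr hqr).pow k l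
  have hpowQ : ∀ t ∈ Q, t ^ q ^ k = 1 := fun t ht => by
    have := pow_card_eq_one' (x := (⟨t, ht⟩ : Q))
    rw [hk] at this
    exact congrArg Subtype.val this
  have hpowU : ∀ u ∈ U, u ^ r ^ l = 1 := fun u hu => by
    have := pow_card_eq_one' (x := (⟨u, hu⟩ : U))
    rw [hl] at this
    exact congrArg Subtype.val this
  have hcommU : ∀ u ∈ U, ∀ g : G, ⁅u, g⁆ ∈ U := fun u hu g => by
    rw [show ⁅u, g⁆ = u * (g * u⁻¹ * g⁻¹) by simp [commutatorElement_def, mul_assoc]]
    exact U.mul_mem hu (Subgroup.Normal.conj_mem inferInstance _ (U.inv_mem hu) g)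
  -- `[U, Q]` lies in no proper invariant subgroup
  have hD : ∀ W ≤ U, A ≤ Subgroup.normalizer (W : Set G) → (∀ u ∈ U, ∀ t ∈ Q, ⁅u, t⁆ ∈ W) → W = U := by
    intro W hW hWA hUQ
    by_contra hWU
    refine hne fun u hu t ht => ?_
    have hd := hprop W (lt_of_le_of_ne hW hWU) hWA _ (hUQ u hu t ht) t ht
    have h1 : (⁅u, t⁆ * t) ^ q ^ k = 1 := by
      rw [show ⁅u, t⁆ * t = u * t * u⁻¹ by simp [commutatorElement_def], conj_pow, hpowQ t ht, mul_one,
        mul_inv_cancel]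
    rw [hd.mul_pow, hpowQ t ht, mul_one] at h1
    have h3 : ⁅u, t⁆ ^ Nat.gcd (q ^ k) (r ^ l) = 1 :=
      pow_gcd_eq_one.mpr ⟨h1, hpowU _ (hcommU u hu t)⟩
    rw [hco.gcd_eq_one, pow_one] at h3
    exact commutatorElement_eq_one_iff_commute.mp h3
  -- a maximal proper invariant subgroup containing the Frattini subgroup
  set Φ := (frattini U).map U.subtype
  haveI : Φ.Normal := inferInstance
  haveI : Nontrivial U := (Subgroup.nontrivial_iff_ne_bot _).mpr fun h => hUA (h ▸ bot_le)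
  have hΦU : Φ < U := by
    refine lt_of_le_of_ne (Subgroup.map_subtype_le _) fun h => ?_
    have h1 : frattini U = ⊤ := top_le_iff.mp fun u _ => by
      obtain ⟨u', hu', he⟩ := h.ge u.2
      exact Subtype.ext he ▸ hu'
    exact absurd (frattini_nongenerating (K := (⊥ : Subgroup U)) (by rw [h1, bot_sup_eq])) bot_ne_top
  obtain ⟨M, ⟨hΦM, hMU, hMA⟩, hmax⟩ := wellFounded_gt.has_min
    {W : Subgroup G | Φ ≤ W ∧ W < U ∧ A ≤ Subgroup.normalizer (W : Set G)}
    ⟨Φ, le_rfl, hΦU, le_top.trans (Subgroup.normalizer_eq_top Φ).ge⟩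
  have hmax' : ∀ W, M ≤ W → W ≤ U → A ≤ Subgroup.normalizer (W : Set G) → W = M ∨ W = U := by
    intro W hMW hWU hWA
    by_contra hcon
    push Not at hcon
    exact hmax W ⟨hΦM.trans hMW, lt_of_le_of_ne hWU hcon.2, hWA⟩ (lt_of_le_of_ne hMW (Ne.symm hcon.1))
  have hMQ : ∀ u ∈ M, ∀ t ∈ Q, Commute u t := hprop M hMU hMA
  haveI hMn : M.Normal := Subgroup.normalizer_eq_top_iff.mp (by
    rw [eq_top_iff, ← hAU]
    refine sup_le hMA fun g hg => Subgroup.mem_normalizer_fintype fun m hm => ?_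
    rw [show g * m * g⁻¹ = ⁅g, m⁆ * m by simp [commutatorElement_def]]
    refine M.mul_mem (hΦM ⟨⁅(⟨g, hg⟩ : U), ⟨m, hMU.le hm⟩⁆, ?_, rfl⟩) hm
    exact Cores.commutator_le_frattini
      (Subgroup.commutator_mem_commutator (Subgroup.mem_top _) (Subgroup.mem_top _)))
  set π := QuotientGroup.mk' M
  have hπ : Function.Surjective π := QuotientGroup.mk'_surjective M
  have hπ1 : ∀ {g}, π g = 1 ↔ g ∈ M := fun {g} => QuotientGroup.eq_one_iff g
  haveI : (U.map π).Normal := Subgroup.Normal.map inferInstance _ hπ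
  haveI : IsMulCommutative (U.map π) := ⟨⟨by
    rintro ⟨_, u, hu, rfl⟩ ⟨_, v, hv, rfl⟩
    apply Subtype.ext
    show π u * π v = π v * π u
    apply commutatorElement_eq_one_iff_mul_comm.mp
    rw [← map_commutatorElement, hπ1]
    exact hΦM ⟨⁅(⟨u, hu⟩ : U), ⟨v, hv⟩⁆, Cores.commutator_le_frattini
      (Subgroup.commutator_mem_commutator (Subgroup.mem_top _) (Subgroup.mem_top _)), rfl⟩⟩⟩
  have hexp : ∀ v ∈ U.map π, v ^ r = 1 := by
    rintro _ ⟨u, hu, rfl⟩
    rw [← map_pow, hπ1]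
    exact hΦM ⟨(⟨u, hu⟩ : U) ^ r, Cores.pow_mem_frattini hU _, rfl⟩
  have hnormC : ∀ W : Subgroup (G ⧸ M), A.map π ≤ Subgroup.normalizer (W : Set (G ⧸ M)) →
      A ≤ Subgroup.normalizer ((W.comap π ⊓ U : Subgroup G) : Set G) := by
    intro W hW g hg
    refine Subgroup.mem_normalizer_fintype fun w hw => ⟨?_, Subgroup.Normal.conj_mem inferInstance w hw.2 g⟩
    show π (g * w * g⁻¹) ∈ W
    rw [map_mul, map_mul, map_inv]
    exact (Subgroup.mem_normalizer_iff.mp (hW ⟨g, hg, rfl⟩) _).mp hw.1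
  have hirr : ∀ W ≤ U.map π, A.map π ≤ Subgroup.normalizer (W : Set (G ⧸ M)) → W = ⊥ ∨ W = U.map π := by
    intro W hW hWA
    have hM' : M ≤ W.comap π ⊓ U := le_inf (fun m hm => by
      rw [Subgroup.mem_comap, hπ1.mpr hm]; exact W.one_mem) hMU.le
    rcases hmax' _ hM' inf_le_right (hnormC W hWA) with h | h
    · refine Or.inl ((Subgroup.eq_bot_iff_forall _).mpr fun v hv => ?_)
      obtain ⟨u, hu, rfl⟩ := hW hv
      exact hπ1.mpr (h.le ⟨hv, hu⟩)
    · refine Or.inr (le_antisymm hW ?_)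
      rintro _ ⟨u, hu, rfl⟩
      exact (h.ge hu).1
  have hA' : A.map π = Subgroup.closure {π x, π a * π x * (π a)⁻¹} := by
    conv_lhs => rw [hA]
    rw [MonoidHom.map_closure, Set.image_pair, map_mul, map_mul, map_inv]
  have hsol' : Group.IsSolvable (A.map π) :=
    haveI := hsol
    Group.isSolvable_of_surjective (π.subgroupMap_surjective A)
  have hdis : A.map π ⊓ U.map π = ⊥ := by
    refine (Subgroup.eq_bot_iff_forall _).mpr ?_
    rintro _ ⟨⟨g, hg, rfl⟩, u, hu, hug⟩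
    set W := (A ⊓ U) ⊔ M
    have hWA : A ≤ Subgroup.normalizer (W : Set G) := by
      intro c hc
      refine Subgroup.mem_normalizer_fintype fun z hz => ?_
      obtain ⟨s, hs, m, hm, rfl⟩ := Subgroup.mem_sup_of_normal_right.mp hz
      rw [show c * (s * m) * c⁻¹ = (c * s * c⁻¹) * (c * m * c⁻¹) by group]
      exact Subgroup.mul_mem_sup ⟨A.mul_mem (A.mul_mem hc hs.1) (A.inv_mem hc),
        Subgroup.Normal.conj_mem inferInstance s hs.2 c⟩ (hMn.conj_mem m hm c)
    rcases hmax' W le_sup_right (sup_le inf_le_right hMU.le) hWA with h | h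
    · have hgU : g ∈ U := by
        have h1 : u⁻¹ * g ∈ M := hπ1.mp (by rw [map_mul, map_inv, hug, inv_mul_cancel])
        simpa using U.mul_mem hu (hMU.le h1)
      exact hπ1.mpr (h.le (Subgroup.mem_sup_left ⟨hg, hgU⟩))
    · exfalso
      have hAUU : A ⊓ U < U := lt_of_le_of_ne inf_le_right fun e => hUA (e.ge.trans inf_le_left)
      have hAUA : A ≤ Subgroup.normalizer ((A ⊓ U : Subgroup G) : Set G) := fun c hc =>
        Subgroup.mem_normalizer_fintype fun z hz => ⟨A.mul_mem (A.mul_mem hc hz.1) (A.inv_mem hc),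
          Subgroup.Normal.conj_mem inferInstance z hz.2 c⟩
      refine hne fun v hv t ht => ?_
      obtain ⟨s, hs, m, hm, rfl⟩ := Subgroup.mem_sup_of_normal_right.mp (h.ge hv)
      exact (hprop _ hAUU hAUA s hs t ht).mul_left (hMQ m hm t ht)
  have hCQ : ∀ v ∈ U.map π, (∀ t ∈ Q.map π, Commute v t) → v = 1 := by
    let C : Subgroup G :=
      (Subgroup.centralizer ((Q.map π : Subgroup (G ⧸ M)) : Set (G ⧸ M))).comap π ⊓ U
    have hCA : A ≤ Subgroup.normalizer (C : Set G) := hnormC _ (by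
      rintro _ ⟨g, hg, rfl⟩
      refine Subgroup.mem_normalizer_fintype fun v hv => ?_
      rintro _ ⟨t, ht, rfl⟩
      have ht' : g⁻¹ * t * g ∈ Q := (Subgroup.mem_normalizer_iff''.mp (hQn hg) t).mp ht
      have h1 : Commute (π (g⁻¹ * t * g)) v := hv _ ⟨_, ht', rfl⟩
      have h2 := h1.map (MulAut.conj (π g)).toMonoidHom
      simpa [mul_assoc] using h2.eq)
    rcases hmax' C (le_inf (fun m hm => by
        rw [Subgroup.mem_comap, hπ1.mpr hm]; exact Subgroup.one_mem _) hMU.le) inf_le_right hCA with h | h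
    · rintro _ ⟨u, hu, rfl⟩ hv
      exact hπ1.mpr (h.le ⟨fun t ht => (hv t ht).symm.eq, hu⟩)
    · exfalso
      refine hMU.ne (hD M hMU.le hMA fun u hu t ht => hπ1.mp ?_)
      rw [map_commutatorElement]
      exact commutatorElement_eq_one_iff_commute.mpr ((h.ge hu).1 _ ⟨t, ht, rfl⟩).symm
  have hxU : ¬ ∀ v ∈ U.map π, Commute (π x) v := by
    intro hc
    refine hMU.ne (hD M hMU.le hMA fun u hu t ht => hπ1.mp ?_)
    rw [map_commutatorElement]
    refine commutatorElement_eq_one_iff_commute.mpr ?_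
    have hle : A.map π ≤ Subgroup.centralizer ((U.map π : Subgroup (G ⧸ M)) : Set (G ⧸ M)) := by
      rw [hA', Subgroup.closure_le]
      rintro g (rfl | rfl) v hv
      · exact (hc v hv).symm.eq
      · have h1 : Commute (π x) ((π a)⁻¹ * v * π a) := hc _ (by
          have := Subgroup.Normal.conj_mem (inferInstance : (U.map π).Normal) v hv (π a)⁻¹
          simpa using this)
        have h2 := h1.map (MulAut.conj (π a)).toMonoidHom
        simpa [mul_assoc] using h2.symm.eq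
    exact hle ⟨t, hQA ht, rfl⟩ _ ⟨u, hu, rfl⟩
  have hxp : π x ^ p = 1 := by rw [← map_pow, hx, map_one]
  obtain ⟨v, ⟨u, hu, rfl⟩, hnf⟩ := exists_not_mem_fixed (A := A.map π) (U := U.map π) hexp hsol' hp h5
    hxp ⟨a, haA, rfl⟩ hA' hxU hirr
  have htop := closure_eq_top (A := A.map π) (U := U.map π) (Q := Q.map π)
    (by rw [← Subgroup.map_sup, hAU, Subgroup.map_top_of_surjective _ hπ]) hdis hqr (hU.map π)
    (Subgroup.map_mono hQA) (hQq.map π) (by
      rintro _ ⟨g, hg, rfl⟩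
      refine Subgroup.mem_normalizer_fintype ?_
      rintro _ ⟨t, ht, rfl⟩
      exact ⟨g * t * g⁻¹, (Subgroup.mem_normalizer_iff.mp (hQn hg) t).mp ht, by simp⟩)
    hCQ ⟨x, hxA, rfl⟩ ⟨a, haA, rfl⟩ hA' hirr ⟨u, hu, rfl⟩ hnf
  refine ⟨u * a, ?_⟩
  set B := Subgroup.closure {x, u * a * x * (u * a)⁻¹}
  have hBM : B ⊔ M = ⊤ := by
    have h1 : B.map π = ⊤ := by
      rw [MonoidHom.map_closure, Set.image_pair, ← htop]
      congr 2
      simp [mul_assoc]
    have h2 := congrArg (Subgroup.comap π) h1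
    rwa [Subgroup.comap_map_eq, QuotientGroup.ker_mk', Subgroup.comap_top] at h2
  have hQB : Q ≤ B := by
    intro t ht
    have ht' : t ∈ B ⊔ M := hBM ▸ Subgroup.mem_top t
    obtain ⟨b, hb, m, hm, he⟩ := Subgroup.mem_sup_of_normal_right.mp ht'
    refine mem_of_mul_mem (m := m⁻¹) ((hMQ m hm t ht).symm.inv_right) (hpowQ t ht)
      (by rw [inv_pow, hpowU m (hMU.le hm), inv_one]) hco ?_
    rw [← he, mul_inv_cancel_right]
    exact hb
  have hUB : U ≤ B := by
    have hcm : ∀ u ∈ U, ∀ t ∈ Q, ⁅u, t⁆ ∈ B := by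
      intro u' hu' t ht
      have hu'' : u' ∈ B ⊔ M := hBM ▸ Subgroup.mem_top u'
      obtain ⟨b, hb, m, hm, rfl⟩ := Subgroup.mem_sup_of_normal_right.mp hu''
      have h1 : ⁅b * m, t⁆ = b * t * b⁻¹ * t⁻¹ := by
        rw [commutatorElement_def, mul_inv_rev, show b * m * t = b * (m * t) by group,
          (hMQ m hm t ht).eq]
        group
      rw [h1]
      exact B.mul_mem (B.mul_mem (B.mul_mem hb (hQB ht)) (B.inv_mem hb)) (B.inv_mem (hQB ht))
    let D : Subgroup G := Subgroup.closure {d | ∃ u ∈ U, ∃ t ∈ Q, d = ⁅u, t⁆}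
    have hDU : D ≤ U := (Subgroup.closure_le _).mpr (by
      rintro _ ⟨u, hu, t, -, rfl⟩; exact hcommU u hu t)
    have hDA : A ≤ Subgroup.normalizer (D : Set G) := by
      intro g hg
      refine Subgroup.mem_normalizer_fintype fun d hd => ?_
      induction hd using Subgroup.closure_induction with
      | mem d hd =>
        obtain ⟨u, hu, t, ht, rfl⟩ := hd
        rw [show g * ⁅u, t⁆ * g⁻¹ = ⁅g * u * g⁻¹, g * t * g⁻¹⁆ by
          simp only [commutatorElement_def]; group]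
        exact Subgroup.subset_closure ⟨_, Subgroup.Normal.conj_mem inferInstance u hu g, _,
          (Subgroup.mem_normalizer_iff.mp (hQn hg) t).mp ht, rfl⟩
      | one => simp
      | mul c e _ _ ihc ihe =>
        rw [show g * (c * e) * g⁻¹ = (g * c * g⁻¹) * (g * e * g⁻¹) by group]
        exact D.mul_mem ihc ihe
      | inv c _ ihc =>
        rw [show g * c⁻¹ * g⁻¹ = (g * c * g⁻¹)⁻¹ by group]
        exact D.inv_mem ihc
    rw [← hD D hDU hDA fun u hu t ht => Subgroup.subset_closure ⟨u, hu, t, ht, rfl⟩]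
    exact (Subgroup.closure_le _).mpr (by rintro _ ⟨u, hu, t, ht, rfl⟩; exact hcm u hu t ht)
  rw [eq_top_iff, ← hBM]
  exact sup_le le_rfl (hMU.le.trans hUB)

end Cfsg.Agent.FixedHalf
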