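import Cfsg.Agent.Lib.FixedHalf.Criterion
import Cfsg.Agent.Lib.FixedHalf.Translates
import Cfsg.Agent.Lib.HallHigman.EndModule

/-!
# Weight spaces of an abelian subgroup

* `Weight ρ A`, `wt`, the action of `normalizer A`
* `bound_of_normal_abelian` : a non-scalar abelian normal subgroup forces `2 dim C_V(x) < dim V`
* `bound_of_abelian_in` : the same from an abelian subgroup `A` normalised by `N` and `x` with scalar
  commutators `⁅A, N⁆` and some `⁅x, n⁆ ∉ C(A)`
-/

set_option autoImplicit false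
set_option linter.style.haveILetI false
set_option linter.unusedSectionVars false
set_option maxHeartbeats 100000

open Module
open scoped commutatorElement

namespace Cfsg.Agent.FixedHalf

variable {K : Type*} [Field K] {V : Type*} [AddCommGroup V] [Module K V]
  {G : Type*} [Group G] (ρ : G →* Module.End K V) (A : Subgroup G)

/-- The weight space of `χ`. -/
def wt (χ : A → K) : Submodule K V := ⨅ a : A, (ρ (a : G)).eigenspace (χ a)

variable {ρ A}

theorem mem_wt {χ : A → K} {v : V} : v ∈ wt ρ A χ ↔ ∀ a : A, ρ (a : G) v = χ a • v := by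
  simp only [wt, Submodule.mem_iInf, Module.End.mem_eigenspace_iff]

/-- The translate of a weight by a normalising element. -/
def wconj (g : Subgroup.normalizer (A : Set G)) (χ : A → K) : A → K := fun a =>
  χ ⟨(g : G)⁻¹ * a * g, (Subgroup.mem_normalizer_iff''.mp g.2 (a : G)).mp a.2⟩

theorem map_mem_wt (g : Subgroup.normalizer (A : Set G)) {χ : A → K} {v : V} (hv : v ∈ wt ρ A χ) :
    ρ (g : G) v ∈ wt ρ A (wconj g χ) := by
  rw [mem_wt] at hv ⊢
  intro a
  have h := hv ⟨(g : G)⁻¹ * a * g, (Subgroup.mem_normalizer_iff''.mp g.2 (a : G)).mp a.2⟩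
  calc ρ (a : G) (ρ (g : G) v) = ρ (g : G) (ρ ((g : G)⁻¹ * a * g) v) := by
        rw [← Module.End.mul_apply, ← map_mul, ← Module.End.mul_apply, ← map_mul]; group
    _ = wconj g χ a • ρ (g : G) v := by rw [h, map_smul]; rfl

variable (ρ A)

/-- The weights of `A` on `V`. -/
abbrev Weight : Type _ := {χ : A → K // wt ρ A χ ≠ ⊥}

variable {ρ A}

theorem rho_injective (g : G) : Function.Injective (ρ g) := fun a b h => by
  have := congrArg (ρ g⁻¹) h
  rwa [← Module.End.mul_apply, ← Module.End.mul_apply, HallHigman.rho_inv_mul,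
    Module.End.one_apply, Module.End.one_apply] at this

theorem wconj_one (χ : A → K) : wconj (1 : Subgroup.normalizer (A : Set G)) χ = χ := by
  funext a; simp [wconj]

theorem wconj_mul (g h : Subgroup.normalizer (A : Set G)) (χ : A → K) :
    wconj (g * h) χ = wconj g (wconj h χ) := by
  funext a; simp [wconj, mul_assoc]

theorem wconj_ne_bot (g : Subgroup.normalizer (A : Set G)) {χ : A → K} (h : wt ρ A χ ≠ ⊥) :
    wt ρ A (wconj g χ) ≠ ⊥ := by
  obtain ⟨v, hv, hv0⟩ := Submodule.exists_mem_ne_zero_of_ne_bot h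
  intro e
  have h1 : ρ (g : G) v = 0 := (Submodule.mem_bot K).mp (by rw [← e]; exact map_mem_wt g hv)
  exact hv0 (rho_injective (g : G) (by rw [h1, map_zero]))

instance weightAction : MulAction (Subgroup.normalizer (A : Set G)) (Weight ρ A) where
  smul g χ := ⟨wconj g χ.1, wconj_ne_bot g χ.2⟩
  one_smul χ := Subtype.ext (wconj_one χ.1)
  mul_smul g h χ := Subtype.ext (wconj_mul g h χ.1)

theorem map_mem_smul (g : Subgroup.normalizer (A : Set G)) (χ : Weight ρ A) {v : V}
    (hv : v ∈ wt ρ A χ.1) : ρ (g : G) v ∈ wt ρ A (g • χ : Weight ρ A).1 :=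
  map_mem_wt g hv

variable [IsAlgClosed K] [FiniteDimensional K V] [Finite G]

theorem isSemisimple_rho (hA : (Nat.card A : K) ≠ 0) (a : A) : (ρ (a : G)).IsSemisimple := by
  refine Module.End.isSemisimple_of_squarefree_aeval_eq_zero
    (p := Polynomial.X ^ Nat.card A - Polynomial.C (1 : K))
    (Polynomial.separable_X_pow_sub_C 1 hA one_ne_zero).squarefree ?_
  have h1 : ρ (a : G) ^ Nat.card A = 1 := by
    rw [← map_pow, ← SubgroupClass.coe_pow, pow_card_eq_one', OneMemClass.coe_one, map_one]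
  simp [h1]

theorem wt_eq (hA : (Nat.card A : K) ≠ 0) (χ : A → K) :
    wt ρ A χ = ⨅ a : A, (ρ (a : G)).maxGenEigenspace (χ a) :=
  iInf_congr fun a =>
    ((isSemisimple_rho hA a).isFinitelySemisimple.maxGenEigenspace_eq_eigenspace _).symm

theorem commute_rho [IsMulCommutative A] (a b : A) : Commute (ρ (a : G)) (ρ (b : G)) :=
  Commute.map (congrArg Subtype.val (mul_comm' a b)) ρ

theorem iSupIndep_wt [IsMulCommutative A] (hA : (Nat.card A : K) ≠ 0) :
    iSupIndep fun χ : A → K => wt ρ A χ := by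
  simp_rw [wt_eq hA]
  exact Module.End.independent_iInf_maxGenEigenspace_of_forall_mapsTo _
    fun i j φ => Module.End.mapsTo_maxGenEigenspace_of_comm (commute_rho j i) φ

theorem iSup_wt [IsMulCommutative A] (hA : (Nat.card A : K) ≠ 0) :
    ⨆ χ : A → K, wt ρ A χ = ⊤ := by
  simp_rw [wt_eq hA]
  exact Module.End.iSup_iInf_maxGenEigenspace_eq_top_of_forall_mapsTo _
    (fun i j φ => Module.End.mapsTo_maxGenEigenspace_of_comm (commute_rho j i) φ)
    fun i => Module.End.iSup_maxGenEigenspace_eq_top _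

theorem iSupIndep_weight [IsMulCommutative A] (hA : (Nat.card A : K) ≠ 0) :
    iSupIndep fun χ : Weight ρ A => wt ρ A χ.1 :=
  (iSupIndep_wt hA).comp Subtype.val_injective

theorem iSup_weight [IsMulCommutative A] (hA : (Nat.card A : K) ≠ 0) :
    ⨆ χ : Weight ρ A, wt ρ A χ.1 = ⊤ := by
  rw [eq_top_iff, ← iSup_wt hA]
  refine iSup_le fun χ => ?_
  by_cases h : wt ρ A χ = ⊥
  · rw [h]; exact bot_le
  · exact le_iSup (fun χ : Weight ρ A => wt ρ A χ.1) ⟨χ, h⟩

theorem finite_weight [IsMulCommutative A] (hA : (Nat.card A : K) ≠ 0) : Finite (Weight ρ A) := by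
  have := (iSupIndep_wt (ρ := ρ) hA).fintypeNeBotOfFiniteDimensional
  exact Finite.of_fintype _

theorem finrank_wt_le (g : Subgroup.normalizer (A : Set G)) (χ : Weight ρ A) :
    finrank K ↥(wt ρ A χ.1) ≤ finrank K ↥(wt ρ A (g • χ : Weight ρ A).1) :=
  LinearMap.finrank_le_finrank_of_injective
    (f := (ρ (g : G)).restrict (p := wt ρ A χ.1) (q := wt ρ A (g • χ : Weight ρ A).1)
      fun _ hv => map_mem_smul g χ hv)
    fun _ _ h => Subtype.ext (rho_injective (g : G) (congrArg Subtype.val h))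

theorem finrank_wt_smul (g : Subgroup.normalizer (A : Set G)) (χ : Weight ρ A) :
    finrank K ↥(wt ρ A (g • χ : Weight ρ A).1) = finrank K ↥(wt ρ A χ.1) :=
  le_antisymm (le_of_le_of_eq (finrank_wt_le g⁻¹ (g • χ)) (by rw [inv_smul_smul])) (finrank_wt_le g χ)

/-- The bound, given the share of the weights fixed by `x`. -/
theorem bound_of_share [IsMulCommutative A] [Fintype (Weight ρ A)] [DecidableEq (Weight ρ A)]
    (hA : (Nat.card A : K) ≠ 0)
    {p : ℕ} (hp : p.Prime) (h5 : 5 ≤ p) (x : Subgroup.normalizer (A : Set G)) (hx : x ^ p = 1)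
    (hshare : 3 * ∑ χ ∈ Finset.univ.filter (fun χ : Weight ρ A => x • χ = χ),
      finrank K ↥(wt ρ A χ.1) ≤ finrank K V) (hpos : 0 < finrank K V) :
    2 * finrank K ↥(fixSub (ρ (x : G))) < finrank K V :=
  two_mul_finrank_fixSub_lt (iSupIndep_weight hA) (iSup_weight hA) hp h5 (ρ (x : G))
    (by rw [← map_pow, ← SubgroupClass.coe_pow, hx, OneMemClass.coe_one, map_one])
    (MulAction.toPermHom _ _ x) (by rw [← map_pow, hx, map_one])
    (fun χ w hw => map_mem_smul x χ hw)
    (by convert hshare using 4; exact Iff.rfl) hpos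

/-- An abelian normal subgroup that is not scalar gives the bound. -/
theorem bound_of_normal_abelian [Group.IsSolvable G] [A.Normal] [IsMulCommutative A]
    (hA : (Nat.card A : K) ≠ 0) (hirr : HallHigman.IsIrred ρ ⊤) (hinj : Function.Injective ρ)
    {p : ℕ} (hp : p.Prime) (h5 : 5 ≤ p) {x : G} (hx : orderOf x = p)
    (hgen : Subgroup.normalClosure ({x} : Set G) = ⊤) (hcen : ¬ A ≤ Subgroup.center G)
    (hpos : 0 < finrank K V) :
    2 * finrank K ↥(fixSub (ρ x)) < finrank K V := by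
  classical
  haveI := finite_weight (ρ := ρ) hA
  haveI := Fintype.ofFinite (Weight ρ A)
  have htop : Subgroup.normalizer (A : Set G) = ⊤ := Subgroup.normalizer_eq_top A
  let φ : G →* Subgroup.normalizer (A : Set G) :=
    (MonoidHom.id G).codRestrict _ fun g => htop ▸ Subgroup.mem_top g
  letI : MulAction G (Weight ρ A) := MulAction.compHom _ φ
  have hne : Nonempty (Weight ρ A) := by
    by_contra h
    haveI := not_nonempty_iff.mp h
    have h1 := iSup_weight (ρ := ρ) hA
    rw [iSup_of_empty] at h1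
    have h2 : finrank K (⊤ : Submodule K V) = 0 := by rw [← h1, finrank_bot]
    rw [finrank_top] at h2
    omega
  haveI : MulAction.IsPretransitive G (Weight ρ A) := ⟨fun χ η => by
    by_contra h
    push Not at h
    let U : Submodule K V := ⨆ g : G, wt ρ A (g • χ : Weight ρ A).1
    have hU : U = ⊤ := by
      refine (hirr U fun g _ v hv => ?_).resolve_left fun h0 => χ.2 (le_bot_iff.mp ?_)
      · have : U ≤ U.comap (ρ g) := iSup_le fun k w hw => by
          refine Submodule.mem_iSup_of_mem (g * k) ?_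
          rw [mul_smul]
          exact map_mem_smul (φ g) _ hw
        exact this hv
      · refine le_trans (le_trans (le_of_eq ?_)
          (le_iSup (fun g : G => wt ρ A (g • χ : Weight ρ A).1) 1)) h0.le
        rw [one_smul]
    refine η.2 (le_bot_iff.mp ?_)
    refine le_trans (le_inf le_rfl ?_) ((iSupIndep_weight hA) η).le_bot
    refine le_trans le_top (hU.ge.trans (iSup_le fun g => ?_))
    exact le_iSup₂_of_le (g • χ) (fun e => h g e) le_rfl⟩
  haveI : Nontrivial (Weight ρ A) := by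
    rw [← not_subsingleton_iff_nontrivial]
    intro hs
    refine hcen fun a ha => Subgroup.mem_center_iff.mpr fun g => hinj ?_
    obtain ⟨χ⟩ := hne
    haveI : Unique (Weight ρ A) := uniqueOfSubsingleton χ
    have h1 : wt ρ A χ.1 = ⊤ := by
      have h := iSup_weight (ρ := ρ) hA
      rwa [iSup_unique, Subsingleton.elim default χ] at h
    refine LinearMap.ext fun v => ?_
    have hv : ∀ w, ρ a w = χ.1 ⟨a, ha⟩ • w := fun w =>
      (mem_wt.mp (h1 ▸ Submodule.mem_top : w ∈ wt ρ A χ.1)) ⟨a, ha⟩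
    rw [map_mul, map_mul, Module.End.mul_apply, Module.End.mul_apply, hv, hv, map_smul]
  have hcount := three_mul_fixed_le (X := Weight ρ A) hgen
    (by rw [hx]; exact hp.odd_of_ne_two (by omega))
  obtain ⟨χ₀⟩ := hne
  have hm : ∀ χ : Weight ρ A, finrank K ↥(wt ρ A χ.1) = finrank K ↥(wt ρ A χ₀.1) := fun χ => by
    obtain ⟨g, rfl⟩ := MulAction.exists_smul_eq G χ₀ χ
    exact finrank_wt_smul (φ g) χ₀
  refine bound_of_share hA hp h5 (φ x) ?_ ?_ hpos
  · rw [← map_pow, ← hx, pow_orderOf_eq_one, map_one]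
  · have hn : finrank K V = Fintype.card (Weight ρ A) * finrank K ↥(wt ρ A χ₀.1) := by
      rw [← smul_eq_mul, ← Finset.card_univ, ← Finset.sum_const, ← Finset.sum_congr rfl fun χ _ => hm χ,
        ← finrank_finsetSup (iSupIndep_weight hA), Finset.sup_univ_eq_iSup, iSup_weight hA, finrank_top]
    rw [Finset.sum_congr rfl fun χ _ => hm χ, Finset.sum_const, smul_eq_mul, hn, ← mul_assoc]
    refine Nat.mul_le_mul ?_ le_rfl
    rw [Nat.card_eq_fintype_card, Nat.card_eq_fintype_card, Fintype.card_subtype] at hcount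
    exact hcount

/-- An abelian subgroup with scalar commutators with `N`, moved by `x`. -/
theorem bound_of_abelian_in [IsMulCommutative A] (hA : (Nat.card A : K) ≠ 0)
    (hinj : Function.Injective ρ) {p : ℕ} (hp : p.Prime) (h5 : 5 ≤ p) {x : G} (hx : orderOf x = p)
    (hxA : x ∈ Subgroup.normalizer (A : Set G)) {N : Subgroup G}
    (hxN : x ∈ Subgroup.normalizer (N : Set G)) (hNA : N ≤ Subgroup.normalizer (A : Set G))
    (hsc : ∀ a ∈ A, ∀ n ∈ N, ∃ c : K, ρ ⁅a, n⁆ = c • 1)
    (hNN : ⁅N, N⁆ ≤ Subgroup.centralizer (A : Set G))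
    (hne : ∃ n ∈ N, ⁅x, n⁆ ∉ Subgroup.centralizer (A : Set G)) (hpos : 0 < finrank K V) :
    2 * finrank K ↥(fixSub (ρ x)) < finrank K V := by
  classical
  haveI := finite_weight (ρ := ρ) hA
  haveI := Fintype.ofFinite (Weight ρ A)
  set S := N ⊓ Subgroup.centralizer (A : Set G) with hS
  have hxC : ∀ s ∈ Subgroup.centralizer (A : Set G), x * s * x⁻¹ ∈ Subgroup.centralizer (A : Set G) := by
    intro s hs a ha
    have h1 := hs (x⁻¹ * a * x) ((Subgroup.mem_normalizer_iff''.mp hxA a).mp ha)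
    calc a * (x * s * x⁻¹) = x * ((x⁻¹ * a * x) * s) * x⁻¹ := by group
      _ = x * (s * (x⁻¹ * a * x)) * x⁻¹ := by rw [h1]
      _ = x * s * x⁻¹ * a := by group
  have hxN' : ∀ n ∈ N, x * n * x⁻¹ ∈ N := fun n hn => (Subgroup.mem_normalizer_iff.mp hxN n).mp hn
  obtain ⟨n₀, hn₀, hn₀'⟩ := hne
  obtain ⟨t, htN, ht⟩ := exists_three_translates (H := N) (S := S)
    (le_inf (Subgroup.commutator_le_self N) hNN) inf_le_left hxN'
    (fun s hs => ⟨hxN' s hs.1, hxC s hs.2⟩) (k := p) (by rw [← hx, pow_orderOf_eq_one])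
    (hp.odd_of_ne_two (by omega)) ⟨n₀, hn₀, fun h => hn₀' h.2⟩
  -- an element of `N` fixing a weight centralises `A`
  have hstab : ∀ c : Subgroup.normalizer (A : Set G), (c : G) ∈ N → ∀ χ : Weight ρ A,
      c • χ = χ → (c : G) ∈ Subgroup.centralizer (A : Set G) := by
    intro c hc χ hcχ a ha
    obtain ⟨v, hv, hv0⟩ := Submodule.exists_mem_ne_zero_of_ne_bot χ.2
    set a' : G := (c : G)⁻¹ * a * c
    have ha' : a' ∈ A := (Subgroup.mem_normalizer_iff''.mp c.2 a).mp ha
    have e1 : χ.1 ⟨a', ha'⟩ = χ.1 ⟨a, ha⟩ := congrFun (congrArg Subtype.val hcχ) ⟨a, ha⟩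
    have h1 := mem_wt.mp hv ⟨a, ha⟩
    have h2 := mem_wt.mp hv ⟨a', ha'⟩
    rw [e1] at h2
    obtain ⟨z, hz⟩ := hsc a⁻¹ (A.inv_mem ha) (c : G)⁻¹ (N.inv_mem hc)
    have h3 : ρ ⁅a⁻¹, (c : G)⁻¹⁆ v = v := by
      have h4 : ρ a⁻¹ (ρ a' v) = v := by
        rw [show ρ a' v = χ.1 ⟨a, ha⟩ • v from h2, ← show ρ a v = χ.1 ⟨a, ha⟩ • v from h1,
          ← Module.End.mul_apply, HallHigman.rho_inv_mul, Module.End.one_apply]
      rw [← Module.End.mul_apply, ← map_mul] at h4
      rwa [show ⁅a⁻¹, (c : G)⁻¹⁆ = a⁻¹ * a' by simp only [a', commutatorElement_def]; group]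
    rw [hz, LinearMap.smul_apply, Module.End.one_apply] at h3
    have hz1 : z = 1 := smul_left_injective K hv0 (by simpa using h3)
    rw [hz1, one_smul] at hz
    have hone : ⁅a⁻¹, (c : G)⁻¹⁆ = 1 := hinj (hz.trans (map_one ρ).symm)
    have hcomm : Commute a⁻¹ (c : G)⁻¹ := commutatorElement_eq_one_iff_commute.mp hone
    exact (Commute.inv_inv_iff.mp hcomm).eq
  let xN : Subgroup.normalizer (A : Set G) := ⟨x, hxA⟩
  let tN : Fin 3 → Subgroup.normalizer (A : Set G) := fun i => ⟨t i, hNA (htN i)⟩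
  refine bound_of_share hA hp h5 xN (Subtype.ext (by
    rw [SubgroupClass.coe_pow, OneMemClass.coe_one, ← hx]; exact pow_orderOf_eq_one x)) ?_ hpos
  set F := Finset.univ.filter (fun χ : Weight ρ A => xN • χ = χ) with hF
  have hinj' : Set.InjOn (fun z : Fin 3 × Weight ρ A => tN z.1 • z.2)
      (((Finset.univ : Finset (Fin 3)) ×ˢ F : Finset _) : Set _) := by
    rintro ⟨i, χ⟩ hi ⟨j, η⟩ hj heq
    simp only [Finset.coe_product, Set.mem_prod, Finset.coe_univ, Set.mem_univ, true_and,
      Finset.mem_coe, hF, Finset.mem_filter, Finset.mem_univ] at hi hj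
    have hu : ((tN j)⁻¹ * tN i) • χ = η := by
      rw [mul_smul, show tN i • χ = tN j • η from heq, inv_smul_smul]
    by_cases hij : i = j
    · subst hij
      simp only [inv_mul_cancel, one_smul] at hu
      subst hu; rfl
    · refine absurd ?_ (ht i j hij)
      set u := (tN j)⁻¹ * tN i
      have huN : (u : G) ∈ N := N.mul_mem (N.inv_mem (htN j)) (htN i)
      have hcN : ((⁅xN, u⁆ : Subgroup.normalizer (A : Set G)) : G) ∈ N := by
        show x * (u : G) * x⁻¹ * (u : G)⁻¹ ∈ N
        exact N.mul_mem (hxN' _ huN) (N.inv_mem huN)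
      have hfix : ⁅xN, u⁆ • η = η := by
        have hxi : xN⁻¹ • χ = χ := inv_smul_eq_iff.mpr hi.symm
        rw [commutatorElement_def, mul_smul, show u⁻¹ • η = χ by rw [← hu, inv_smul_smul],
          mul_smul, hxi, mul_smul, hu, hj]
      exact ⟨hcN, hstab _ hcN η hfix⟩
  have hdim : ∑ χ : Weight ρ A, finrank K ↥(wt ρ A χ.1) = finrank K V := by
    rw [← finrank_finsetSup (iSupIndep_weight hA), Finset.sup_univ_eq_iSup, iSup_weight hA,
      finrank_top]
  have hconst : ∀ (i : Fin 3) (χ : Weight ρ A), finrank K ↥(wt ρ A (tN i • χ : Weight ρ A).1) = finrank K ↥(wt ρ A χ.1) :=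
    fun i χ => finrank_wt_smul (tN i) χ
  have hprod : ∑ z ∈ (Finset.univ : Finset (Fin 3)) ×ˢ F,
      finrank K ↥(wt ρ A (tN z.1 • z.2 : Weight ρ A).1) = 3 * ∑ χ ∈ F, finrank K ↥(wt ρ A χ.1) := by
    rw [Finset.sum_product]
    simp only [hconst, Finset.sum_const, Finset.card_univ, Fintype.card_fin, smul_eq_mul]
  have himg := Finset.sum_image (f := fun χ : Weight ρ A => finrank K ↥(wt ρ A χ.1)) hinj'
  rw [← hprod, ← himg, ← hdim]
  exact Finset.sum_le_sum_of_subset (Finset.subset_univ _)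

end Cfsg.Agent.FixedHalf
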